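import Mathlib
import Cfsg.Prelude.Def_EvenType
import Cfsg.Agent.BpExc.AsmN_m3
import Cfsg.Agent.BpExc.FamTwSix
import Cfsg.Agent.H79.DiagAuts
import Cfsg.Agent.H79.FieldAuts
import Cfsg.Agent.BpExc.EmbInst
import Cfsg.Agent.H79.DiagSymm
import Cfsg.Agent.S1070
import Cfsg.Agent.ChevalleyStructure.GraphF4
import Cfsg.Agent.ChevalleyStructure.TwF4.TorusFix
import Cfsg.Agent.ChevalleyStructure.TwF4.WeylDih
import Cfsg.Agent.ChevalleyStructure.TwF4.TwistedFix
import Cfsg.Agent.FastGrp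
import Cfsg.Agent.Prune
set_option linter.all false

section
prune_inst 0x7ffdffff7ff8fddeffff7e7ffededffff9fbffffbfdffbfbfffcf1ffafdf6b0ad9e52b8dffeb5aff2ed642be30fa7b83ffffeeffeb6fdc7ffffd5ff45fffffcffdf6bda971d78c3e0f3c6fff83f0ffce7f3fffffffffffffffffffffffffffbeffffffffffff

-- part: H296/Lift
section
set_option linter.all false
open scoped Cfsg.Agent.FastGrp

/-!
# Involutory automorphisms from Lang's theorem (helper296)

`e : G →* Y` injective, `σ ∈ Aut Y` extending `s ∈ Aut G`; `x ∈ Aut G` with `x * x = 1` is induced by `conj y * σ`,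
`y = z⁻¹ σ(z)`.
* `std` : `s * s = 1` and `σ (σ z) = z` (as soon as some subset fixed by `s * s` has trivial centralizer in `Y`);
* `exists_conj` : `x = ζ⁻¹ * s * ζ`, when the elements fixed by `σ * σ` normalize `e(G)`;
* `fixedEquiv` : `fixedSubgroup x ≃* fixedSubgroup s`;
* `comp_eq` : a group `C` with a nonabelian simple subgroup `N` containing `[C, C]` has `N` as its only component.
-/

set_option autoImplicit false

namespace Cfsg.Agent.H296.Lift

open Cfsg

section Abs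

variable {G Y : Type*} [Group G] [Group Y] {e : G →* Y} {σ : MulAut Y} {s x : MulAut G}

theorem std (he : Function.Injective e) (hs : ∀ a, σ (e a) = e (s a)) {y : Y}
    (hxy : ∀ a, e (x a) = y * σ (e a) * y⁻¹) (hx : x * x = 1) {z : Y} (hz : y = z⁻¹ * σ z)
    {G0 : Set G} (h0 : ∀ a ∈ G0, s (s a) = a) (hC : ∀ c : Y, (∀ a ∈ G0, c * e a = e a * c) → c = 1) :
    s * s = 1 ∧ σ (σ z) = z := by
  have h1 : ∀ a, e (x a) = z⁻¹ * σ (z * e a * z⁻¹) * z := by
    intro a
    rw [hxy, hz, map_mul, map_mul, map_inv]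
    group
  have h2 : ∀ a, e a = z⁻¹ * σ (σ z) * e (s (s a)) * (z⁻¹ * σ (σ z))⁻¹ := by
    intro a
    have h3 : x (x a) = a := by
      rw [← MulAut.mul_apply, hx]; rfl
    have h4 : z * e (x a) * z⁻¹ = σ (z * e a * z⁻¹) := by
      rw [h1]; group
    have h5 : e (x (x a)) = z⁻¹ * σ (σ (z * e a * z⁻¹)) * z := by
      rw [h1, h4]
    rw [h3] at h5
    rw [h5, map_mul, map_mul, map_mul, map_mul, hs, hs, map_inv, map_inv]
    group
  have h3 : z⁻¹ * σ (σ z) = 1 := by
    refine hC _ fun a ha => ?_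
    have h4 := h2 a
    rw [h0 a ha] at h4
    conv_rhs => rw [h4]
    group
  refine ⟨?_, ?_⟩
  · apply MulEquiv.ext
    intro a
    apply he
    have h4 := h2 a
    rw [h3, one_mul, inv_one, mul_one] at h4
    exact h4.symm
  · have h4 := inv_mul_eq_one.1 h3
    exact h4.symm

theorem exists_conj (he : Function.Injective e) (hs : ∀ a, σ (e a) = e (s a)) {y : Y}
    (hxy : ∀ a, e (x a) = y * σ (e a) * y⁻¹) {z : Y} (hz : y = z⁻¹ * σ z) (hσz : σ (σ z) = z)
    (hN : ∀ z : Y, σ (σ z) = z → ∀ a, ∃ b, e b = z * e a * z⁻¹) :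
    ∃ ζ : MulAut G, (∀ a, e (ζ a) = z * e a * z⁻¹) ∧ x = ζ⁻¹ * s * ζ := by
  have hz' : σ (σ z⁻¹) = z⁻¹ := by rw [map_inv, map_inv, hσz]
  choose f hf using hN z hσz
  choose f' hf' using hN z⁻¹ hz'
  let ζ : MulAut G :=
    { toFun := f
      invFun := f'
      left_inv := fun a => he (by rw [hf', hf]; group)
      right_inv := fun a => he (by rw [hf, hf']; group)
      map_mul' := fun a b => he (by rw [hf, map_mul, map_mul, hf, hf]; group) }
  have hζ : ∀ a, e (ζ a) = z * e a * z⁻¹ := hf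
  refine ⟨ζ, hζ, ?_⟩
  apply MulEquiv.ext
  intro a
  apply ζ.injective
  apply he
  rw [hζ, hxy, hz, MulAut.mul_apply, MulAut.mul_apply, MulAut.apply_inv_self, ← hs, hζ, map_mul, map_mul, map_inv]
  group

/-- fixed points of conjugate automorphisms -/
def fixedEquiv (x s ζ : MulAut G) (h : x = ζ⁻¹ * s * ζ) : ↥(fixedSubgroup x) ≃* ↥(fixedSubgroup s) where
  toFun a := ⟨ζ a, by
    have h1 : x (a : G) = a := a.2
    have h2 : x (a : G) = ζ⁻¹ (s (ζ a)) := congrArg (fun f : MulAut G => f (a : G)) h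
    show s (ζ a) = ζ a
    rw [← MulAut.apply_inv_self G ζ (s (ζ a)), ← h2, h1]⟩
  invFun b := ⟨ζ⁻¹ b, by
    have h1 : s (b : G) = b := b.2
    have h2 : x (ζ⁻¹ b : G) = ζ⁻¹ (s (ζ (ζ⁻¹ b))) := congrArg (fun f : MulAut G => f (ζ⁻¹ b : G)) h
    show x (ζ⁻¹ b) = ζ⁻¹ b
    rw [h2, MulAut.apply_inv_self, h1]⟩
  left_inv a := Subtype.ext (MulAut.inv_apply_self G ζ a)
  right_inv b := Subtype.ext (MulAut.apply_inv_self G ζ b)
  map_mul' a b := Subtype.ext (map_mul ζ (a : G) b)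

end Abs

/-! ### components -/

section Comp

theorem perfect_le {C : Type*} [Group C] {N L : Subgroup C} (hc : ⁅(⊤ : Subgroup C), (⊤ : Subgroup C)⁆ ≤ N)
    (hL : Group.IsPerfect ↥L) : L ≤ N := by
  have h1 : ⁅L, L⁆ = L := by
    have h2 : ⁅(⊤ : Subgroup ↥L), (⊤ : Subgroup ↥L)⁆ = ⊤ := hL.commutator_eq_top
    have h3 := congrArg (Subgroup.map L.subtype) h2
    rw [Subgroup.map_commutator, ← MonoidHom.range_eq_map, Subgroup.range_subtype] at h3
    exact h3
  rw [← h1]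
  exact (Subgroup.commutator_mono le_top le_top).trans hc

/-- A group with a nonabelian simple subgroup containing the commutator subgroup has only one component. -/
theorem comp_eq {C : Type*} [Group C] {N : Subgroup C} (hN : IsSimpleGroup ↥N)
    (hc : ⁅(⊤ : Subgroup C), (⊤ : Subgroup C)⁆ ≤ N) {L : Subgroup C} (hL : IsComponent L) : L = N := by
  have h1 : L ≤ N := perfect_le hc hL.2.1
  have h2 : (L.subgroupOf N).IsSubnormal := hL.1.subgroupOf
  rcases Subgroup.IsSubnormal.eq_bot_or_top_of_isSimpleGroup hN h2 with h3 | h3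
  · exfalso
    have h4 : L = ⊥ := by
      rw [Subgroup.subgroupOf_eq_bot] at h3
      exact h3.eq_bot_of_le h1
    have h5 := hL.2.2
    have h6 : Nontrivial (↥L ⧸ Subgroup.center ↥L) := h5.toNontrivial
    obtain ⟨a, b, hab⟩ := h6.exists_pair_ne
    apply hab
    have h7 : Subsingleton ↥L := by
      rw [h4]
      infer_instance
    have h8 : Subsingleton (↥L ⧸ Subgroup.center ↥L) := Quotient.instSubsingletonQuotient _
    exact Subsingleton.elim a b
  · exact le_antisymm h1 (Subgroup.subgroupOf_eq_top.1 h3)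

/-- `C` = fixed points of `s`, `T` a simple subgroup of the ambient group, `T` normal in `C` with `C = T A`, `A`
abelian. -/
theorem comm_le {C : Type*} [Group C] {N A : Subgroup C} (hN : N.Normal) (hA : ∀ a ∈ A, ∀ b ∈ A, a * b = b * a)
    (h : ∀ c, ∃ n ∈ N, ∃ a ∈ A, c = n * a) : ⁅(⊤ : Subgroup C), (⊤ : Subgroup C)⁆ ≤ N := by
  rw [Subgroup.commutator_le]
  intro c _ d _
  obtain ⟨n, hn, a, ha, rfl⟩ := h c
  obtain ⟨m, hm, b, hb, rfl⟩ := h d
  rw [← QuotientGroup.eq_one_iff, commutatorElement_def]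
  have e1 : ((n : C) : C ⧸ N) = 1 := (QuotientGroup.eq_one_iff n).2 hn
  have e2 : ((m : C) : C ⧸ N) = 1 := (QuotientGroup.eq_one_iff m).2 hm
  rw [QuotientGroup.mk_mul, QuotientGroup.mk_mul, QuotientGroup.mk_mul, QuotientGroup.mk_inv, QuotientGroup.mk_inv,
    QuotientGroup.mk_mul, QuotientGroup.mk_mul, e1, e2, one_mul, one_mul, ← QuotientGroup.mk_mul, hA a ha b hb,
    QuotientGroup.mk_mul]
  group

/-- transport of components -/
theorem comp_map {C C' : Type*} [Group C] [Group C'] (ε : C ≃* C') {L : Subgroup C} (hL : IsComponent L) :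
    IsComponent (L.map ε.toMonoidHom) ∧ Nonempty (↥L ≃* ↥(L.map ε.toMonoidHom)) := by
  have e : ↥L ≃* ↥(L.map ε.toMonoidHom) := L.equivMapOfInjective ε.toMonoidHom ε.injective
  refine ⟨⟨hL.1.map ε.surjective, ?_, ?_⟩, ⟨e⟩⟩
  · have := hL.2.1
    exact Group.IsPerfect.ofSurjective (f := e.toMonoidHom) e.surjective
  · have := hL.2.2
    exact (MulEquiv.isSimpleGroup_congr (QuotientGroup.congr _ _ e (by
      ext y
      constructor
      · rintro ⟨x, hx, rfl⟩
        rw [Subgroup.mem_center_iff]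
        intro g
        obtain ⟨g', rfl⟩ := e.surjective g
        show e g' * e x = e x * e g'
        rw [← map_mul, Subgroup.mem_center_iff.1 hx g', map_mul]
      · intro hy
        refine ⟨e.symm y, ?_, e.apply_symm_apply y⟩
        rw [SetLike.mem_coe, Subgroup.mem_center_iff]
        intro g
        apply e.injective
        rw [map_mul, map_mul, e.apply_symm_apply, Subgroup.mem_center_iff.1 hy]))).1 this

end Comp

end Cfsg.Agent.H296.Lift
end

-- part: H296/ESixGF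
section
prune_inst 0x20000800402210000000000000000020000004000000000000400000080840010402000000100100030008b040040000001000090010000000000000000000001000000080080000000000000000000000000000000000000000000000000000000000000
set_option linter.all false
open scoped Cfsg.Agent.FastGrp

-- part: H296/Core
section
/-!
# Involutory automorphisms of field and graph-field type of `D.group F` (helper296)

`F` finite of characteristic `r`, `|F| = r ^ n`, `k` its algebraic closure, `e : D.group F → D.group k`.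
`Gam` : a pair of automorphisms `γF`, `γk` (the identity or graph automorphisms) with `γk² = (Frobenius)^j0` for which
Lang's theorem holds.
* `main` : `x = conj y * d * γF * fld τ`, `d` diagonal, `x * x = 1`, (`τ ≠ 1` if `j0 = 0`): `n = j0 + 2 m`,
  `τ a = a ^ r ^ m` and `x` is conjugate in `Aut` to `γF * fld τ`.
-/

set_option autoImplicit false
set_option linter.unusedSectionVars false

namespace Cfsg.Agent.H296.Core

open CoxeterSystem Subgroup Cfsg Cfsg.Lie Cfsg.Lie.ChevalleyDatum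
open Cfsg.Agent.ChevalleyStructure Cfsg.Agent.ChevalleyStructure.Elts Cfsg.Agent.ChevalleyStructure.CoxeterGeom
  Cfsg.Agent.ChevalleyStructure.CoxeterGeomTypes
open Cfsg.Agent.Nodes.RGDChev Cfsg.Agent.KFacts.RgdChevCoord Cfsg.Agent.CpAut.RgdUntw
open Cfsg.Agent.GpExc.Field (glMap emb coe_emb glMap_xG emb_injective coe_glMap)
open Cfsg.Agent.BpExc.FamExt Cfsg.Agent.BpExc.FamField Cfsg.Agent.BpExc.Tow
  Cfsg.Agent.BpExc.TowChev Cfsg.Agent.BpExc.FamUntw Cfsg.Agent.BpExc.FamInst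
open Cfsg.Agent.H79 (OutChev.IsD)

universe u v

variable {D : ChevalleyDatum} {l : ℕ} {M : CoxeterMatrix (Fin l)} (hp : IsType D l M)

/-! ### the algebraic closure -/

theorem charP_closure (F : Type u) [Field F] (r : ℕ) [CharP F r] : CharP (AlgebraicClosure F) r :=
  charP_of_injective_algebraMap (algebraMap F (AlgebraicClosure F)).injective r

theorem locFin_closure (F : Type u) [Field F] [Finite F] (r : ℕ) [Fact r.Prime] [CharP F r] :
    LocFin (AlgebraicClosure F) := by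
  have h1 := charP_closure F r
  let _ : Algebra (ZMod r) F := ZMod.algebra F r
  have h3 : Algebra.IsAlgebraic (ZMod r) F := Algebra.IsAlgebraic.of_finite (ZMod r) F
  have h4 : Algebra.IsAlgebraic (ZMod r) (AlgebraicClosure F) := Algebra.IsAlgebraic.trans (ZMod r) F _
  exact locFin_of_isAlgebraic r _

/-! ### diagonal automorphisms -/

section Diag

variable {F : Type u} [Field F] {k : Type v} [Field k] (f : F →+* k)

/-- **Diagonal automorphisms are induced by elements of the torus over a larger field.** -/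
theorem diag_ext {m : ℕ} {B : Fin l → Fin l → ℤ} (hB : InvC D l m B) (hm : m ≠ 0)
    (hroots : ∀ c : F, c ≠ 0 → ∃ b : k, b ^ m = f c) {d : MulAut ↥(D.group F)} (hd : D.IsDiagonalAut d) :
    ∃ t ∈ TT D k, ∀ a, emb hp.inList f (d a) = t * emb hp.inList f a * t⁻¹ := by
  obtain ⟨χ, hχ, rfl⟩ := Cfsg.Agent.H79.CharDiag.eq_diagAut hp.inList hd
  have hB' : ∀ i k : Fin l, ∑ j : Fin l, B i j * D.cartan j (D.simple k) = if i = k then (m : ℤ) else 0 := by
    intro i k
    rw [← hB i k]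
    rfl
  obtain ⟨t, ht, hpos, hneg⟩ := Cfsg.Agent.BpExc.FamTw.Tor.exists_diag hp (F := k) (m := m) (B := B) hB'
    (b := fun i => f (χ (D.simple i) : F)) (fun i => (map_ne_zero f).2 (Units.ne_zero _))
    (fun i => hroots _ (Units.ne_zero _)) hm
  have htG : t ∈ D.group k := diagonal_le_group hp.inList k ht
  refine ⟨⟨t, htG⟩, ht, fun a => ?_⟩
  have h1 : (emb hp.inList f).comp (Cfsg.Agent.H79.CharDiag.diagAut hp.inList hχ).toMonoidHom =
      (MulAut.conj (⟨t, htG⟩ : ↥(D.group k))).toMonoidHom.comp (emb hp.inList f) := by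
    refine Cfsg.Agent.H79.SimpleGen.hom_ext hp.inList _ _ (fun i hi a => ?_) (fun i hi a => ?_)
    · have hil : i < l := by rw [← hp.rank_eq]; exact hi
      show emb hp.inList f (Cfsg.Agent.H79.CharDiag.diagAut hp.inList hχ (Cfsg.Agent.H79.SimpleGen.xS hp.inList _ a)) =
        ⟨t, htG⟩ * emb hp.inList f (Cfsg.Agent.H79.SimpleGen.xS hp.inList _ a) * (⟨t, htG⟩ : ↥(D.group k))⁻¹
      rw [Cfsg.Agent.H79.CharDiag.diagAut_xS hp.inList hχ (Cfsg.Agent.H79.SimpleGen.simple_lt hp.inList hi)]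
      apply Subtype.ext
      rw [Subgroup.coe_mul, Subgroup.coe_mul, Subgroup.coe_inv, coe_emb, coe_emb]
      show glMap D f (xG hp.inList _ _) = t * glMap D f (xG hp.inList _ a) * t⁻¹
      rw [glMap_xG, glMap_xG, hpos ⟨i, hil⟩, map_mul]
    · have hil : i < l := by rw [← hp.rank_eq]; exact hi
      show emb hp.inList f (Cfsg.Agent.H79.CharDiag.diagAut hp.inList hχ (Cfsg.Agent.H79.SimpleGen.xS hp.inList _ a)) =
        ⟨t, htG⟩ * emb hp.inList f (Cfsg.Agent.H79.SimpleGen.xS hp.inList _ a) * (⟨t, htG⟩ : ↥(D.group k))⁻¹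
      rw [Cfsg.Agent.H79.CharDiag.diagAut_xS hp.inList hχ (Cfsg.Agent.H79.SimpleGen.neg_simple_lt hp.inList hi)]
      apply Subtype.ext
      rw [Subgroup.coe_mul, Subgroup.coe_mul, Subgroup.coe_inv, coe_emb, coe_emb]
      show glMap D f (xG hp.inList _ _) = t * glMap D f (xG hp.inList _ a) * t⁻¹
      rw [glMap_xG, glMap_xG, hneg ⟨i, hil⟩, map_mul, hχ.1 _ (Cfsg.Agent.H79.SimpleGen.simple_lt hp.inList hi),
        Units.val_inv_eq_inv_val, map_inv₀]
  exact DFunLike.congr_fun h1 a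

end Diag

/-! ### the main theorem -/

section Main

variable {F : Type u} [Field F] [Finite F] {k : Type u} [Field k] (r : ℕ) [Fact r.Prime] [CharP F r]
  [CharP k r] [PerfectRing k r] (f : F →+* k)

/-- The identity or graph automorphisms over `F` and over `k`. -/
structure Gam (j0 : ℕ) (γF : MulAut ↥(D.group F)) (γk : MulAut ↥(D.group k)) : Prop where
  nat : ∀ a, γk (emb hp.inList f a) = emb hp.inList f (γF a)
  sq : γk * γk = phi D k r j0
  comm : ∀ m, γk * phi D k r m = phi D k r m * γk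
  lang : ∀ m, 0 < j0 + 2 * m → ∀ c, ∃ z, c = z⁻¹ * (γk * phi D k r m) z

theorem phi_mul (m j : ℕ) : phi D k r m * phi D k r j = phi D k r (m + j) := by
  unfold phi
  rw [← fld_mul]
  congr 1
  ext a
  rw [RingAut.mul_apply, frb_apply, frb_apply, frb_apply, ← pow_mul, ← pow_add, add_comm]

include r in
/-- the elements of the group over the prime field -/
theorem eq_one_of_comm_prime (hk : LocFin k) (hZ : center ↥(D.group k) = ⊥) {c : ↥(D.group k)}
    (hc : ∀ a : ↥(D.group F), (∀ τ : F ≃+* F, fld D τ a = a) → c * emb hp.inList f a = emb hp.inList f a * c) :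
    c = 1 := by
  obtain ⟨g, hg⟩ : ∃ g : ULift.{u} (ZMod r) →+* F, True :=
    ⟨(ZMod.castHom (dvd_refl r) F).comp (ULift.ringEquiv : ULift.{u} (ZMod r) ≃+* ZMod r).toRingHom, trivial⟩
  refine eq_one_of_comm (F := ULift.{u} (ZMod r)) hp hk r (f.comp g) hZ fun y => ?_
  have h1 : emb hp.inList (f.comp g) y = emb hp.inList f (emb hp.inList g y) := by
    apply Subtype.ext
    apply Units.ext
    rfl
  rw [h1]
  apply hc
  intro τ
  apply Subtype.ext
  apply Units.ext
  rw [fld_coe, coe_emb, coe_glMap, Matrix.map_map]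
  ext i j
  have h2 : (τ : F →+* F).comp g = g := by
    have h3 : ((τ : F →+* F).comp g).comp (ULift.ringEquiv : ULift.{u} (ZMod r) ≃+* ZMod r).symm.toRingHom =
        g.comp (ULift.ringEquiv : ULift.{u} (ZMod r) ≃+* ZMod r).symm.toRingHom := Subsingleton.elim _ _
    ext a
    exact DFunLike.congr_fun h3 ((ULift.ringEquiv : ULift.{u} (ZMod r) ≃+* ZMod r) a)
  exact DFunLike.congr_fun h2 _

variable {j0 : ℕ} {γF : MulAut ↥(D.group F)} {γk : MulAut ↥(D.group k)}

include f in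
theorem step (G : Gam hp r f j0 γF γk) (hk : LocFin k) (hZ : center ↥(D.group k) = ⊥) {m' : ℕ}
    {B : Fin l → Fin l → ℤ} (hB : InvC D l m' B) (hm' : m' ≠ 0)
    (hroots : ∀ c : F, c ≠ 0 → ∃ b : k, b ^ m' = f c) {x : MulAut ↥(D.group F)} (hx : x * x = 1)
    {y : ↥(D.group F)} {d : MulAut ↥(D.group F)} (hd : D.IsDiagonalAut d) {τ : F ≃+* F}
    (hxy : ∀ a, x a = y * d (γF (fld D τ a)) * y⁻¹) {m : ℕ} (hm : ∀ a, τ a = a ^ r ^ m) (hpos : 0 < j0 + 2 * m) :
    ∃ z y' : ↥(D.group k), y' = z⁻¹ * (γk * phi D k r m) z ∧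
      (∀ a, (γk * phi D k r m) (emb hp.inList f a) = emb hp.inList f ((γF * fld D τ) a)) ∧
      (∀ a, emb hp.inList f (x a) = y' * (γk * phi D k r m) (emb hp.inList f a) * y'⁻¹) ∧
      (γF * fld D τ) * (γF * fld D τ) = 1 ∧ (γk * phi D k r m) ((γk * phi D k r m) z) = z := by
  obtain ⟨t, -, ht⟩ := diag_ext hp f hB hm' hroots hd
  have hs : ∀ a, (γk * phi D k r m) (emb hp.inList f a) = emb hp.inList f ((γF * fld D τ) a) := by
    intro a
    rw [MulAut.mul_apply, MulAut.mul_apply, ← G.nat]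
    congr 1
    unfold phi
    exact fld_emb hp f (fun a => by rw [frb_apply, hm, map_pow]) a
  have hxy' : ∀ a, emb hp.inList f (x a) = (emb hp.inList f y * t) * (γk * phi D k r m) (emb hp.inList f a) *
      (emb hp.inList f y * t)⁻¹ := by
    intro a
    rw [hxy, map_mul, map_mul, map_inv, ht, hs, MulAut.mul_apply]
    group
  obtain ⟨z, hz⟩ := G.lang m hpos (emb hp.inList f y * t)
  have h0 : ∀ a : ↥(D.group F), (∀ τ : F ≃+* F, fld D τ a = a) →
      (γF * fld D τ) ((γF * fld D τ) a) = a := by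
    intro a ha
    apply emb_injective hp.inList f
    rw [← hs, ← hs, ← MulAut.mul_apply]
    have e1 : γk * phi D k r m * (γk * phi D k r m) = phi D k r (j0 + (m + m)) := by
      calc γk * phi D k r m * (γk * phi D k r m) = γk * (phi D k r m * γk) * phi D k r m := by group
        _ = γk * γk * (phi D k r m * phi D k r m) := by rw [← G.comm]; group
        _ = _ := by rw [G.sq, phi_mul, phi_mul]
    rw [e1]
    obtain ⟨τ', hτ'⟩ : ∃ τ' : F ≃+* F, ∀ a, τ' a = a ^ r ^ (j0 + (m + m)) := by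
      have : PerfectRing F r := inferInstance
      exact ⟨frb F r (j0 + (m + m)), fun a => frb_apply F r _ a⟩
    unfold phi
    rw [fld_emb hp f (τ := τ') (fun a => by rw [frb_apply, hτ', map_pow]), ha τ']
  obtain ⟨h1, h2⟩ := Lift.std (emb_injective hp.inList f) hs hxy' hx hz
    (G0 := {a | ∀ τ : F ≃+* F, fld D τ a = a}) h0 (fun c hc => eq_one_of_comm_prime hp r f hk hZ hc)
  exact ⟨z, _, hz, hs, hxy', h1, h2⟩

include f in
theorem main (G : Gam hp r f j0 γF γk) (hk : LocFin k) (hZ : center ↥(D.group k) = ⊥) {m' : ℕ}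
    {B : Fin l → Fin l → ℤ} (hB : InvC D l m' B) (hm' : m' ≠ 0)
    (hroots : ∀ c : F, c ≠ 0 → ∃ b : k, b ^ m' = f c) (hj0 : j0 = 0 ∨ j0 = 1) {n : ℕ} (hn : Nat.card F = r ^ n)
    {x : MulAut ↥(D.group F)} (hx : x * x = 1)
    {y : ↥(D.group F)} {d : MulAut ↥(D.group F)} (hd : D.IsDiagonalAut d) {τ : F ≃+* F} (hτ : j0 = 0 → τ ≠ 1)
    (hxy : ∀ a, x a = y * d (γF (fld D τ a)) * y⁻¹) :
    ∃ m, n = j0 + 2 * m ∧ (∀ a, τ a = a ^ r ^ m) ∧ (γF * fld D τ) * (γF * fld D τ) = 1 ∧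
      ∃ ζ : MulAut ↥(D.group F), x = ζ⁻¹ * (γF * fld D τ) * ζ := by
  have hn0 : 0 < n := by
    rcases Nat.eq_zero_or_pos n with h0 | h0
    · rw [h0, pow_zero] at hn
      exact absurd hn (Nat.ne_of_gt Finite.one_lt_card)
    · exact h0
  have hrn : ∀ a : F, ∀ i, a ^ r ^ (n * i) = a := fun a i => (forall_pow_iff r hn (n * i)).2 ⟨i, rfl⟩ a
  obtain ⟨j, hj⟩ := exists_pow_eq r τ
  -- step 1
  have hj' : ∀ a, τ a = a ^ r ^ (j + n) := by
    intro a
    rw [hj, pow_add, pow_mul]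
    have := hrn (a ^ r ^ j) 1
    rw [mul_one] at this
    rw [this]
  obtain ⟨z, y', -, hs, -, hss, -⟩ := step hp r f G hk hZ hB hm' hroots hx hd hxy hj' (by omega)
  have hdvd : n ∣ j0 + 2 * (j + n) := by
    rw [← forall_pow_iff r hn]
    intro a
    have h1 : ∀ b : ↥(D.group F), phi D k r (j0 + 2 * (j + n)) (emb hp.inList f b) = emb hp.inList f b := by
      intro b
      have e1 : γk * phi D k r (j + n) * (γk * phi D k r (j + n)) = phi D k r (j0 + ((j + n) + (j + n))) := by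
        calc γk * phi D k r (j + n) * (γk * phi D k r (j + n)) =
            γk * (phi D k r (j + n) * γk) * phi D k r (j + n) := by group
          _ = γk * γk * (phi D k r (j + n) * phi D k r (j + n)) := by rw [← G.comm]; group
          _ = _ := by rw [G.sq, phi_mul, phi_mul]
      rw [show j0 + 2 * (j + n) = j0 + ((j + n) + (j + n)) by ring, ← e1, MulAut.mul_apply, hs, hs,
        ← MulAut.mul_apply, hss]
      rfl
    have hr0 : 0 < D.rank := (RootComb.good_of_mem hp.inList).rank_pos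
    have h2 := h1 (Cfsg.Agent.H79.SimpleGen.xS hp.inList (D.simple 0) a)
    have h3 := congrArg (fun g : ↥(D.group k) => (g : GL D.Idx k)) h2
    simp only [phi, coe_emb] at h3
    rw [Cfsg.Agent.BpExc.FamTw.Gr.coe_fld] at h3
    change glMap D _ (glMap D f (xG hp.inList _ a)) = glMap D f (xG hp.inList _ a) at h3
    rw [glMap_xG, glMap_xG] at h3
    have h4 := xG_injective hp.inList (Cfsg.Agent.H79.SimpleGen.simple_lt hp.inList hr0) h3
    have h5 : (f a) ^ r ^ (j0 + 2 * (j + n)) = f a := by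
      rw [← frb_apply k r]
      exact h4
    rw [← map_pow] at h5
    exact f.injective h5
  -- the exponent
  obtain ⟨m, hmn, hjm⟩ : ∃ m, n = j0 + 2 * m ∧ ∃ i, j + n = m + n * i := by
    obtain ⟨c, hc⟩ := hdvd
    rcases hj0 with rfl | rfl
    · -- `n ∣ 2 (j + n)`, `n ∤ j`
      have hnj : ¬ n ∣ j := by
        intro h1
        obtain ⟨i, rfl⟩ := h1
        apply hτ rfl
        ext a
        rw [hj, hrn]
        rfl
      have hc2 : c % 2 = 1 := by
        by_contra hcon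
        obtain ⟨c', rfl⟩ : ∃ c', c = 2 * c' := ⟨c / 2, by omega⟩
        apply hnj
        have h2 : j + n = n * c' := by
          have : 2 * (j + n) = 2 * (n * c') := by rw [← Nat.mul_left_comm]; omega
          omega
        exact (Nat.dvd_add_left (dvd_refl n)).1 ⟨c', h2⟩
      obtain ⟨c', rfl⟩ : ∃ c', c = 2 * c' + 1 := ⟨c / 2, by omega⟩
      have h3 : 2 * (j + n) = 2 * (n * c') + n := by
        have : n * (2 * c' + 1) = 2 * (n * c') + n := by ring
        omega
      exact ⟨n / 2, by omega, c', by omega⟩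
    · have hodd : (n * c) % 2 = 1 := by omega
      have hn2 : n % 2 = 1 := by
        rcases Nat.mod_two_eq_zero_or_one n with h | h
        · rw [Nat.mul_mod, h] at hodd; simp at hodd
        · exact h
      have hc2 : c % 2 = 1 := by
        rcases Nat.mod_two_eq_zero_or_one c with h | h
        · rw [Nat.mul_mod, h] at hodd; simp at hodd
        · exact h
      obtain ⟨c', rfl⟩ : ∃ c', c = 2 * c' + 1 := ⟨c / 2, by omega⟩
      have h3 : 1 + 2 * (j + n) = 2 * (n * c') + n := by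
        have : n * (2 * c' + 1) = 2 * (n * c') + n := by ring
        omega
      exact ⟨n / 2, by omega, c', by omega⟩
  obtain ⟨i, hi⟩ := hjm
  have hm : ∀ a, τ a = a ^ r ^ m := by
    intro a
    rw [hj', hi, pow_add, pow_mul, hrn]
  obtain ⟨z, y', hz, hs, hxy', hss, hzz⟩ := step hp r f G hk hZ hB hm' hroots hx hd hxy hm (by omega)
  refine ⟨m, hmn, hm, hss, ?_⟩
  have e1 : γk * phi D k r m * (γk * phi D k r m) = phi D k r n := by
    calc γk * phi D k r m * (γk * phi D k r m) = γk * (phi D k r m * γk) * phi D k r m := by group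
      _ = γk * γk * (phi D k r m * phi D k r m) := by rw [← G.comm]; group
      _ = _ := by
        rw [G.sq, phi_mul, phi_mul, hmn]
        congr 1
        ring
  have := Fintype.ofFinite F
  have hq : Fintype.card F = r ^ n := by rw [← hn, Nat.card_eq_fintype_card]
  obtain ⟨ζ, -, hζ⟩ := Lift.exists_conj (emb_injective hp.inList f) hs hxy' hz hzz (fun w hw a => by
    rw [← MulAut.mul_apply, e1] at hw
    have h1 := Cfsg.Agent.BpExc.Emb.conj_mem_range hp.inList (f := f)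
      (φ := ((frb k r n : k ≃+* k) : k →+* k)) (fun t => by rw [hq]; exact frb_apply k r n t)
      (σ := phi D k r n) (fun y => by apply Units.ext; rfl) hw ⟨a, rfl⟩
    exact h1)
  exact ⟨ζ, hζ⟩

end Main

end Cfsg.Agent.H296.Core
end

-- part: H296/ESixGF
section
/-!
# Graph-field automorphisms of order two of `E₆(q²)` (helper296)

`F` finite (any characteristic). `x` an automorphism of `E₆(F)` with `x * x = 1`, `x = y · d · g · φ`, `d` diagonal, `g ≠ 1`
a graph automorphism, `φ ≠ 1` a field automorphism: `|F| = q²` and `x` is conjugate to the standard one; the fixed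
subgroup has `²E₆(q)` as normal subgroup with abelian quotient, and it is its only component.
* `gam_one`, `gam_E6` : the two instances of `Core.Gam` (field type for all types, graph-field type for `E₆`);
* `main` , `comp` : the result and the component.
-/

set_option autoImplicit false
set_option linter.unusedSectionVars false

namespace Cfsg.Agent.H296.ESixGF

open CoxeterSystem Subgroup Cfsg Cfsg.Lie Cfsg.Lie.ChevalleyDatum
open Cfsg.Agent.ChevalleyStructure Cfsg.Agent.ChevalleyStructure.Elts Cfsg.Agent.ChevalleyStructure.CoxeterGeom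
  Cfsg.Agent.ChevalleyStructure.CoxeterGeomTypes
open Cfsg.Agent.Nodes.RGDChev Cfsg.Agent.KFacts.RgdChevCoord Cfsg.Agent.CpAut.RgdUntw
open Cfsg.Agent.GpExc.Field (glMap emb coe_emb glMap_xG emb_injective coe_glMap)
open Cfsg.Agent.BpExc.FamExt Cfsg.Agent.BpExc.FamField Cfsg.Agent.BpExc.Tow
  Cfsg.Agent.BpExc.TowChev Cfsg.Agent.BpExc.FamUntw Cfsg.Agent.BpExc.FamInst Cfsg.Agent.BpExc.LangFr
open Cfsg.Agent.BpExc.FamTw.Gr Cfsg.Agent.ChevalleyStructure.GraphSymm
open Cfsg.Agent.H79.SimpleGen (xS)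
open Cfsg.Agent.H296.Core

universe u v

section One

variable {D : ChevalleyDatum} {l : ℕ} {M : CoxeterMatrix (Fin l)} (hp : IsType D l M)
  {F : Type u} [Field F] [Finite F] {k : Type u} [Field k] (r : ℕ) [Fact r.Prime] [CharP F r]
  [CharP k r] [PerfectRing k r] (f : F →+* k)

theorem phi_zero : phi D k r 0 = 1 := by
  have h1 : frb k r 0 = 1 := by
    ext a
    rw [frb_apply, pow_zero, pow_one]
    rfl
  unfold phi
  rw [h1, fld_one]

include f in
/-- the identity -/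
theorem gam_one [IsAlgClosed k] (hk : LocFin k) : Gam hp r f 0 1 1 where
  nat _ := rfl
  sq := by rw [phi_zero, mul_one]
  comm m := by rw [one_mul, mul_one]
  lang m hm c := by
    obtain ⟨z, hz⟩ := lang_all hp M.toCoxeterSystem (p := r) (e := m) (by omega) (phi_isFrob r m)
      (phi_fr hp M.toCoxeterSystem r hk m) 1 c
    refine ⟨z, ?_⟩
    rw [map_one] at hz
    exact hz

end One

section E6

abbrev hp6 : IsType chevE6 6 CoxeterMatrix.E₆ := Cfsg.Agent.Nodes.RGDTwE6.hp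

theorem gr_sq6 {L : Type v} [Field L] :
    gr (L := L) hp6.inList symmE6 * gr hp6.inList symmE6 = 1 := by
  have h := Cfsg.Agent.BpExc.FamTw.Six.gr_sq_E6 (L := L)
  rwa [pow_two] at h

theorem lang6 {k : Type u} [Field k] [IsAlgClosed k] (r : ℕ) [Fact r.Prime] [CharP k r] [PerfectRing k r] {m : ℕ}
    (hm : 0 < m) (c : ↥(chevE6.group k)) :
    ∃ z : ↥(chevE6.group k), c = z⁻¹ * (gr (L := k) hp6.inList symmE6 * phi chevE6 k r m : MulAut ↥(chevE6.group k)) z := by
  have h1 : chevE6.group k = LangThm.MM hp6.inList Set.univ k :=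
    Cfsg.Agent.BpExc.TorAll.group_eq_MM hp6
  obtain ⟨y, hy, hc⟩ := LangThm.lang_chev' hp6.inList r m hm Set.univ (symmE6.P k) (fun s _ => by
    by_cases hs : s < chevE6.nroots
    · refine ⟨(symmE6.σ ⟨s, hs⟩).val, trivial, fun t => ⟨_, P_xG hp6.inList symmE6 ⟨s, hs⟩ t⟩⟩
    · refine ⟨s, trivial, fun t => ⟨0, ?_⟩⟩
      rw [xG_of_not_lt hp6.inList hs, xG_of_not_lt hp6.inList hs, mul_one, mul_inv_cancel])
    (m := (c : GL chevE6.Idx k)) (by rw [← h1]; exact c.2)
  rw [← h1] at hy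
  refine ⟨⟨y, hy⟩, Subtype.ext ?_⟩
  rw [Subgroup.coe_mul, Subgroup.coe_inv, hc, MulAut.mul_apply, coe_gr, phi_frob]

theorem gam_E6 {F : Type u} [Field F] [Finite F] {k : Type u} [Field k] (r : ℕ) [Fact r.Prime] [CharP F r]
    [CharP k r] [IsAlgClosed k] [PerfectRing k r] (f : F →+* k) :
    Gam hp6 r f 0 (gr hp6.inList symmE6) (gr hp6.inList symmE6) where
  nat a := by
    apply Subtype.ext
    rw [coe_gr, coe_emb, coe_emb, coe_gr, map_mul, map_mul, map_inv, glMap_P]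
  sq := by rw [phi_zero, gr_sq6]
  comm m := gr_mul_fld hp6.inList symmE6 _
  lang m hm c := lang6 r (by omega) c

/-! ### graph automorphisms -/

theorem neg_lt6 : ∀ i : Fin 6, chevE6.neg (chevE6.simple i) < chevE6.nroots := by decide +kernel

theorem neg_map6 : ∀ i : Fin 6, (symmE6.σ ⟨chevE6.neg (chevE6.simple i), neg_lt6 i⟩).val =
    chevE6.neg (chevE6.simple ((![5, 1, 4, 3, 2, 0] : Fin 6 → Fin 6) i)) := by decide +kernel

theorem neg_eps6 : ∀ i : Fin 6, symmE6.ε ⟨chevE6.neg (chevE6.simple i), neg_lt6 i⟩ = 1 := by decide +kernel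

theorem rho_rho6 : ∀ i : Fin 6, (![5, 1, 4, 3, 2, 0] : Fin 6 → Fin 6) ((![5, 1, 4, 3, 2, 0] : Fin 6 → Fin 6) i) = i := by
  decide

/-- the symmetry of the diagram -/
def rho6 : Equiv.Perm (Fin chevE6.rank) where
  toFun := (![5, 1, 4, 3, 2, 0] : Fin 6 → Fin 6)
  invFun := (![5, 1, 4, 3, 2, 0] : Fin 6 → Fin 6)
  left_inv := rho_rho6
  right_inv := rho_rho6

theorem rho6_symm : chevE6.IsDiagramSymmetry rho6 := by
  unfold ChevalleyDatum.IsDiagramSymmetry
  decide +kernel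

theorem rho6_ne : rho6 ≠ 1 := by decide

theorem exp6 (c i j : ℕ) (hj : j < 6) : chevE6.graphExp c i j = 1 := by
  have key : ∀ j < 6, chevE6.isLong (chevE6.simple j) = false := by decide +kernel
  unfold ChevalleyDatum.graphExp
  rw [key j hj]
  rfl

theorem gr_isGr {L : Type v} [Field L] : Cfsg.Agent.H79.OutChev.IsGr hp6.inList rho6
    (fun i => chevE6.graphExp (ringChar L) i (rho6 i)) (gr (L := L) hp6.inList symmE6) := by
  intro i t
  have e : chevE6.graphExp (ringChar L) i (rho6 i) = 1 := exp6 _ _ _ (rho6 i).isLt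
  simp only [e, pow_one]
  have h1 := gr_xg (L := L) hp6.inList symmE6 ⟨chevE6.simple i, Cfsg.Agent.BpExc.FamTw.Six.simple_lt6 i⟩ t
  have h2 := gr_xg (L := L) hp6.inList symmE6 ⟨chevE6.neg (chevE6.simple i), neg_lt6 i⟩ t
  have a1 : symmE6.ε ⟨chevE6.simple i, Cfsg.Agent.BpExc.FamTw.Six.simple_lt6 i⟩ = 1 :=
    Cfsg.Agent.BpExc.FamTw.Six.simple_eps6 i
  have a2 : (symmE6.σ ⟨chevE6.simple i, Cfsg.Agent.BpExc.FamTw.Six.simple_lt6 i⟩).val = chevE6.simple (rho6 i) :=
    Cfsg.Agent.BpExc.FamTw.Six.simple_map6 i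
  have a3 : symmE6.ε ⟨chevE6.neg (chevE6.simple i), neg_lt6 i⟩ = 1 := neg_eps6 i
  have a4 : (symmE6.σ ⟨chevE6.neg (chevE6.simple i), neg_lt6 i⟩).val = chevE6.neg (chevE6.simple (rho6 i)) := neg_map6 i
  rw [a1, Int.cast_one, one_mul, a2] at h1
  rw [a3, Int.cast_one, one_mul, a4] at h2
  exact ⟨h1, h2⟩

/-- **The nontrivial graph automorphism of `E₆(L)`.** -/
theorem eq_gr {L : Type v} [Field L] {g : MulAut ↥(chevE6.group L)} (hg : chevE6.IsGraphAut g) (hg1 : g ≠ 1) :
    g = gr hp6.inList symmE6 := by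
  obtain ⟨π, hπs, hπ⟩ := Cfsg.Agent.H79.OutChev.isGraphAut_isGr hp6.inList hg
  have h1 : π ≠ 1 := by
    rintro rfl
    exact hg1 (Cfsg.Agent.H79.OutChev.isGr_one hπ)
  have h2 : π = rho6 := Cfsg.Agent.H79.DiagSymm.eq_of_ne_one (by simp) hπs rho6_symm h1 rho6_ne
  subst h2
  exact hπ.unique gr_isGr

/-- field automorphisms -/
theorem eq_fld {D : ChevalleyDatum} {l : ℕ} {M : CoxeterMatrix (Fin l)} (hp : IsType D l M) {L : Type v} [Field L]
    {g : MulAut ↥(D.group L)} (hg : D.IsFieldAut g) : ∃ τ : L ≃+* L, g = fld D τ := by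
  obtain ⟨τ, h⟩ := hg
  refine ⟨τ, ?_⟩
  apply Cfsg.Agent.H79.SimpleGen.equiv_ext hp.inList
  · intro i hi t
    rw [Cfsg.Agent.H79.SimpleGen.field_apply hp.inList h (Cfsg.Agent.H79.SimpleGen.simple_lt hp.inList hi)]
    apply Subtype.ext
    rw [coe_fld]
    exact (glMap_xG hp.inList (τ : L →+* L) _ t).symm
  · intro i hi t
    rw [Cfsg.Agent.H79.SimpleGen.field_apply hp.inList h (Cfsg.Agent.H79.SimpleGen.neg_simple_lt hp.inList hi)]
    apply Subtype.ext
    rw [coe_fld]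
    exact (glMap_xG hp.inList (τ : L →+* L) _ t).symm

/-! ### the fixed points of the standard automorphism -/

section Std

variable {F : Type u} [Field F] [Fintype F] {q : ℕ}

theorem gr_fld_coe (τ : F ≃+* F) (g : ↥(chevE6.group F)) :
    ((gr hp6.inList symmE6 (fld chevE6 τ g) : ↥(chevE6.group F)) : GL chevE6.Idx F) =
      TwE6Basic.sg (τ : F →+* F) (g : GL chevE6.Idx F) := rfl

theorem glMap_id (g : GL chevE6.Idx F) : glMap chevE6 (RingHom.id F) g = g := by
  apply Units.ext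
  rfl

/-- **The fixed points of the standard graph-field automorphism.** -/
theorem std_fix (hq : IsPrimePow q) (hF : Fintype.card F = q ^ 2) {τ : F ≃+* F} (hτ : ∀ a, τ a = a ^ q) :
    ∃ N : Subgroup ↥(fixedSubgroup (gr (L := F) hp6.inList symmE6 * fld chevE6 τ : MulAut ↥(chevE6.group F))),
      Nonempty (↥N ≃* ↥(twistedE6 F q)) ∧ IsSimpleGroup ↥N ∧
      ⁅(⊤ : Subgroup ↥(fixedSubgroup (gr (L := F) hp6.inList symmE6 * fld chevE6 τ : MulAut ↥(chevE6.group F)))),
        (⊤ : Subgroup _)⁆ ≤ N := by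
  set C := fixedSubgroup (gr (L := F) hp6.inList symmE6 * fld chevE6 τ : MulAut ↥(chevE6.group F)) with hC
  have hφ : ∀ t, (τ : F →+* F) t = t ^ q := hτ
  have hmem : ∀ g : ↥(chevE6.group F), g ∈ C ↔ TwE6Basic.sg (τ : F →+* F) (g : GL chevE6.Idx F) = g := by
    intro g
    constructor
    · intro h
      have h1 : (gr (L := F) hp6.inList symmE6 * fld chevE6 τ : MulAut ↥(chevE6.group F)) g = g := h
      rw [MulAut.mul_apply] at h1
      rw [← gr_fld_coe, h1]
    · intro h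
      show (gr (L := F) hp6.inList symmE6 * fld chevE6 τ : MulAut ↥(chevE6.group F)) g = g
      apply Subtype.ext
      rw [MulAut.mul_apply, gr_fld_coe, h]
  have hle : twistedE6 F q ≤ chevE6.group F := Cfsg.Agent.BpExc.FamTw.Six.twisted_le_group q
  have hfix : ∀ g ∈ twistedE6 F q, TwE6Basic.sg (τ : F →+* F) g = g := by
    intro g hg
    have h1 := (Cfsg.Agent.BpExc.EmbInst.twE6_fix hq hF (f := RingHom.id F) hφ hg).2
    rwa [glMap_id] at h1
  -- the subgroup
  let ι : ↥C →* GL chevE6.Idx F := (chevE6.group F).subtype.comp C.subtype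
  have hι : Function.Injective ι := fun a b h => Subtype.ext (Subtype.ext h)
  refine ⟨(twistedE6 F q).comap ι, ?_, ?_, ?_⟩
  · refine ⟨?_⟩
    have e1 : ((twistedE6 F q).comap ι).map ι = twistedE6 F q := by
      rw [Subgroup.map_comap_eq, inf_eq_right]
      intro g hg
      exact ⟨⟨⟨g, hle hg⟩, (hmem _).2 (hfix g hg)⟩, rfl⟩
    exact (((twistedE6 F q).comap ι).equivMapOfInjective ι hι).trans (MulEquiv.subgroupCongr e1)
  · have e1 : ((twistedE6 F q).comap ι).map ι = twistedE6 F q := by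
      rw [Subgroup.map_comap_eq, inf_eq_right]
      intro g hg
      exact ⟨⟨⟨g, hle hg⟩, (hmem _).2 (hfix g hg)⟩, rfl⟩
    have e := (((twistedE6 F q).comap ι).equivMapOfInjective ι hι).trans (MulEquiv.subgroupCongr e1)
    have h1 : IsSimpleGroup ↥(twistedE6 F q) := (Cfsg.Agent.S1070.result hq hF).1
    exact e.isSimpleGroup
  · refine Lift.comm_le (A := (chevE6.diagonalSubgroup F).comap ι) ⟨fun n hn g => ?_⟩ (fun a ha b hb => ?_)
      (fun c => ?_)
    · have h1 := Cfsg.Agent.BpExc.EmbInst.twE6_normalizer hq hF (f := RingHom.id F) hφ (g := (g : ↥(chevE6.group F)))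
        (g : ↥(chevE6.group F)).2 ((hmem _).1 g.2)
      have h2 : (twistedE6 F q).map (glMap chevE6 (RingHom.id F)) = twistedE6 F q := by
        ext y
        constructor
        · rintro ⟨w, hw, rfl⟩
          rw [glMap_id]
          exact hw
        · intro hy
          exact ⟨y, hy, glMap_id y⟩
      rw [h2] at h1
      exact (Subgroup.mem_normalizer_iff.1 h1 _).1 hn
    · apply hι
      rw [map_mul, map_mul]
      have h1 : (ι a : GL chevE6.Idx F) ∈ chevE6.diagonalSubgroup F := ha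
      have h2 : (ι b : GL chevE6.Idx F) ∈ chevE6.diagonalSubgroup F := hb
      have h3 := Cfsg.Agent.BpExc.TorChev.TT_comm (K := F) hp6 (a : ↥(chevE6.group F)) h1 (b : ↥(chevE6.group F)) h2
      exact congrArg Subtype.val h3
    · obtain ⟨x, hx, t, ht, e⟩ := Cfsg.Agent.BpExc.EmbInst.twE6_split hq hF (f := RingHom.id F) hφ
        (g := (c : ↥(chevE6.group F))) (c : ↥(chevE6.group F)).2 ((hmem _).1 c.2)
      rw [glMap_id] at e
      have hxC : (⟨x, hle hx⟩ : ↥(chevE6.group F)) ∈ C := (hmem _).2 (hfix x hx)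
      refine ⟨⟨⟨x, hle hx⟩, hxC⟩, hx, (⟨⟨x, hle hx⟩, hxC⟩ : ↥C)⁻¹ * c, ?_, by group⟩
      show ι ((⟨⟨x, hle hx⟩, hxC⟩ : ↥C)⁻¹ * c) ∈ chevE6.diagonalSubgroup F
      have h1 : ι ((⟨⟨x, hle hx⟩, hxC⟩ : ↥C)⁻¹ * c) = t := by
        rw [map_mul, map_inv]
        show x⁻¹ * ((c : ↥(chevE6.group F)) : GL chevE6.Idx F) = t
        rw [e]
        group
      rw [h1]
      exact ht

end Std

/-! ### the result -/

variable {F : Type u} [Field F] [Fintype F]

/-- **Graph-field automorphisms of order two of `E₆(F)`.** -/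
theorem main (r : ℕ) [Fact r.Prime] [CharP F r] {x : MulAut ↥(chevE6.group F)} (hx : x * x = 1)
    {y : ↥(chevE6.group F)} {d g φ : MulAut ↥(chevE6.group F)} (hd : chevE6.IsDiagonalAut d)
    (hg : chevE6.IsGraphAut g) (hφ : chevE6.IsFieldAut φ) (hg1 : g ≠ 1) (hφ1 : φ ≠ 1)
    (hxy : ∀ a, x a = y * d (g (φ a)) * y⁻¹) :
    ∃ (q : ℕ) (τ : F ≃+* F) (ζ : MulAut ↥(chevE6.group F)), IsPrimePow q ∧ Fintype.card F = q ^ 2 ∧
      (∀ a, τ a = a ^ q) ∧ x = ζ⁻¹ * (gr hp6.inList symmE6 * fld chevE6 τ) * ζ := by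
  have h1 := charP_closure F r
  have hk := locFin_closure F r
  obtain ⟨n, hn0, hn⟩ := exists_card (F := F) r
  have hZ : center ↥(chevE6.group (AlgebraicClosure F)) = ⊥ := by
    obtain ⟨a, b⟩ := Cfsg.Agent.S1054.result (F := AlgebraicClosure F) chevE6 (by simp)
    refine KFacts.RgdLieCharP.center_eq_bot ?_
    by_contra hcon
    push Not at hcon
    exact b ⟨⟨hcon⟩⟩
  obtain ⟨τ, rfl⟩ := eq_fld hp6 hφ
  have hτ1 : τ ≠ 1 := by
    rintro rfl
    exact hφ1 fld_one
  rw [eq_gr hg hg1] at hxy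
  obtain ⟨m, hm, hτ, -, ζ, hζ⟩ := Core.main hp6 r (algebraMap F (AlgebraicClosure F))
    (gam_E6 r (algebraMap F (AlgebraicClosure F))) hk hZ inv_E6 (by norm_num)
    (fun c _ => IsAlgClosed.exists_pow_nat_eq _ (by norm_num)) (Or.inl rfl) hn hx hd (fun _ => hτ1) hxy
  have hm0 : m ≠ 0 := by omega
  refine ⟨r ^ m, τ, ζ, ⟨r, m, (Fact.out : r.Prime).prime, Nat.pos_of_ne_zero hm0, rfl⟩, ?_, hτ, hζ⟩
  rw [← Nat.card_eq_fintype_card, hn, hm, ← pow_mul]
  congr 1
  ring

/-- **The component of the centralizer.** -/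
theorem comp {x : MulAut ↥(chevE6.group F)} (hx : x * x = 1)
    {y : ↥(chevE6.group F)} {d g φ : MulAut ↥(chevE6.group F)} (hd : chevE6.IsDiagonalAut d)
    (hg : chevE6.IsGraphAut g) (hφ : chevE6.IsFieldAut φ) (hg1 : g ≠ 1) (hφ1 : φ ≠ 1)
    (hxy : ∀ a, x a = y * d (g (φ a)) * y⁻¹) :
    ∃ q : ℕ, IsPrimePow q ∧ Fintype.card F = q ^ 2 ∧
      (∃ N : Subgroup ↥(fixedSubgroup x), Nonempty (↥N ≃* ↥(twistedE6 F q)) ∧ IsSimpleGroup ↥N ∧
        ⁅(⊤ : Subgroup ↥(fixedSubgroup x)), (⊤ : Subgroup _)⁆ ≤ N) ∧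
      ∀ L : Subgroup ↥(fixedSubgroup x), IsComponent L → Nonempty (↥L ≃* ↥(twistedE6 F q)) := by
  obtain ⟨r, hr⟩ := CharP.exists F
  have : Fact r.Prime := ⟨CharP.char_is_prime F r⟩
  obtain ⟨q, τ, ζ, hq, hF, hτ, hζ⟩ := main r hx hd hg hφ hg1 hφ1 hxy
  obtain ⟨N, ⟨e⟩, hN, hc⟩ := std_fix hq hF hτ
  let ε := Lift.fixedEquiv x _ ζ hζ
  refine ⟨q, hq, hF, ⟨N.map ε.symm.toMonoidHom, ?_, ?_, ?_⟩, fun L hL => ?_⟩
  · exact ⟨(N.equivMapOfInjective ε.symm.toMonoidHom ε.symm.injective).symm.trans e⟩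
  · exact (N.equivMapOfInjective ε.symm.toMonoidHom ε.symm.injective).symm.isSimpleGroup
  · have h1 : (⊤ : Subgroup ↥(fixedSubgroup x)) = (⊤ : Subgroup _).map ε.symm.toMonoidHom := by
      rw [← MonoidHom.range_eq_map, MonoidHom.range_eq_top.2 ε.symm.surjective]
    rw [h1, ← Subgroup.map_commutator]
    exact Subgroup.map_mono hc
  · obtain ⟨h1, ⟨e1⟩⟩ := Lift.comp_map ε hL
    have h2 := Lift.comp_eq hN hc h1
    exact ⟨e1.trans ((MulEquiv.subgroupCongr h2).trans e)⟩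

end E6

end Cfsg.Agent.H296.ESixGF
end

private theorem dce_166d7de1d8e9 : _root_.True := by
  try have : _root_.True := by simp only [_root_.Cfsg.Agent.BpExc.FamField.frb.congr_simp]
  try have : _root_.True := by simp only [_root_.Cfsg.Agent.BpExc.FamTw.Gr.gr.congr_simp]
  try have : _root_.True := by simp only [_root_.Cfsg.Agent.BpExc.FamUntw.phi.eq_1]
  exact _root_.True.intro
end

-- part: H296/FFourGam
section
prune_inst 0x800002210000018001012000060400000020040000010c00000084750412d0300004010091091c008f04045400001100149021000002a0002000001002090214002823c0d0c300007808000000000000000000000000000000000041000000000000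
set_option linter.all false
open scoped Cfsg.Agent.FastGrp

/-!
# The exceptional graph automorphism of `F₄(K)`, `K` perfect of characteristic two (helper296)

* `al` : the automorphism `x_r(t) ↦ x_{bar r}(t ^ lam r)`; `al * al` is the Frobenius automorphism;
* `gam_F4` : the instance of `Core.Gam` with `j0 = 1` (Lang's theorem for `al * phi m`);
* `isGr`, `eq_al` : `al` is the nontrivial graph automorphism.
-/

set_option autoImplicit false
set_option linter.unusedSectionVars false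

namespace Cfsg.Agent.H296.FFour

open CoxeterSystem Subgroup Cfsg Cfsg.Lie Cfsg.Lie.ChevalleyDatum
open Cfsg.Agent.ChevalleyStructure Cfsg.Agent.ChevalleyStructure.Elts Cfsg.Agent.ChevalleyStructure.CoxeterGeom
  Cfsg.Agent.ChevalleyStructure.CoxeterGeomTypes
open Cfsg.Agent.Nodes.RGDChev Cfsg.Agent.KFacts.RgdChevCoord Cfsg.Agent.CpAut.RgdUntw
open Cfsg.Agent.GpExc.Field (glMap emb coe_emb glMap_xG emb_injective coe_glMap)
open Cfsg.Agent.BpExc.FamExt Cfsg.Agent.BpExc.FamField Cfsg.Agent.BpExc.Tow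
  Cfsg.Agent.BpExc.TowChev Cfsg.Agent.BpExc.FamUntw Cfsg.Agent.BpExc.FamInst Cfsg.Agent.BpExc.LangFr
open Cfsg.Agent.H79.SimpleGen (xS)
open Cfsg.Agent.H296.Core Cfsg.Agent.H296.ESixGF
open Cfsg.Agent.ChevalleyStructure.GraphTabF4

universe u v

theorem hp4 : IsType chevF4 4 CoxeterMatrix.F₄ := by simp [IsType, typeList]

/-- the relabelling of the roots -/
noncomputable def br (r : ℕ) : ℕ := tabF4.bar.getD r 0

/-- the exponent of the root -/
noncomputable def la (r : ℕ) : ℕ := tabF4.lam.getD r 0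

theorem tab : ∀ r < 48, br r < 48 ∧ br (br r) = r ∧ la r * la (br r) = 2 := by decide +kernel

theorem tab_simple : ∀ i < 4, chevF4.neg (chevF4.simple i) < 48 ∧ chevF4.simple i < 48 := by decide +kernel

section Al

variable {K : Type v} [Field K] [CharP K 2]

theorem perf [PerfectRing K 2] (x : K) : ∃ y : K, y ^ 2 = x := by
  obtain ⟨y, hy⟩ := (PerfectRing.bijective_frobenius (R := K) (p := 2)).2 x
  exact ⟨y, hy⟩

theorem exists_al (K : Type v) [Field K] [CharP K 2] [PerfectRing K 2] : ∃ α : MulAut ↥(chevF4.group K), ∀ r < 48,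
    ∀ t : K, α (xS hp4.inList r t) = xS hp4.inList (br r) (t ^ la r) := by
  obtain ⟨α, hα⟩ := Cfsg.Agent.ChevalleyStructure.GraphF4.exists_graph (K := K) perf
  refine ⟨α, fun r hr t => ?_⟩
  apply Subtype.ext
  apply Units.ext
  exact hα (xS hp4.inList r t) r t hr rfl

/-- **The exceptional graph automorphism.** -/
noncomputable def al (K : Type v) [Field K] [CharP K 2] [PerfectRing K 2] : MulAut ↥(chevF4.group K) :=
  Classical.choose (exists_al K)

theorem al_xS [PerfectRing K 2] {r : ℕ} (hr : r < 48) (t : K) :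
    al K (xS hp4.inList r t) = xS hp4.inList (br r) (t ^ la r) :=
  Classical.choose_spec (exists_al K) r hr t

/-- two homomorphisms agreeing on the root elements -/
theorem ext4 {H : Type*} [Group H] (f g : ↥(chevF4.group K) →* H)
    (h : ∀ r < 48, ∀ t : K, f (xS hp4.inList r t) = g (xS hp4.inList r t)) : f = g :=
  Cfsg.Agent.H79.SimpleGen.hom_ext hp4.inList f g (fun i hi t => h _ (tab_simple i hi).2 t)
    (fun i hi t => h _ (tab_simple i hi).1 t)

theorem aut_ext4 (f g : MulAut ↥(chevF4.group K))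
    (h : ∀ r < 48, ∀ t : K, f (xS hp4.inList r t) = g (xS hp4.inList r t)) : f = g := by
  have h1 := ext4 f.toMonoidHom g.toMonoidHom h
  exact MulEquiv.ext fun a => DFunLike.congr_fun h1 a

theorem fld_xS (τ : K ≃+* K) (r : ℕ) (t : K) :
    fld chevF4 τ (xS hp4.inList r t) = xS hp4.inList r (τ t) := by
  apply Subtype.ext
  rw [Cfsg.Agent.BpExc.FamTw.Gr.coe_fld]
  exact glMap_xG hp4.inList (τ : K →+* K) r t

theorem phi_xS [PerfectRing K 2] (m r : ℕ) (t : K) :
    phi chevF4 K 2 m (xS hp4.inList r t) = xS hp4.inList r (t ^ 2 ^ m) := by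
  unfold phi
  rw [fld_xS, frb_apply]

theorem al_mul_fld [PerfectRing K 2] (τ : K ≃+* K) : al K * fld chevF4 τ = fld chevF4 τ * al K := by
  apply aut_ext4
  intro r hr t
  rw [MulAut.mul_apply, MulAut.mul_apply, fld_xS, al_xS hr, al_xS hr, fld_xS, map_pow]

theorem al_sq [PerfectRing K 2] : al K * al K = phi chevF4 K 2 1 := by
  apply aut_ext4
  intro r hr t
  rw [MulAut.mul_apply, al_xS hr, al_xS (tab r hr).1, phi_xS, (tab r hr).2.1, ← pow_mul, (tab r hr).2.2, pow_one]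

theorem al_phi_sq [PerfectRing K 2] (m : ℕ) :
    (al K * phi chevF4 K 2 m) * (al K * phi chevF4 K 2 m) = phi chevF4 K 2 (2 * m + 1) := by
  have h1 : al K * phi chevF4 K 2 m = phi chevF4 K 2 m * al K := al_mul_fld _
  calc (al K * phi chevF4 K 2 m) * (al K * phi chevF4 K 2 m) =
      al K * (phi chevF4 K 2 m * al K) * phi chevF4 K 2 m := by group
    _ = al K * al K * (phi chevF4 K 2 m * phi chevF4 K 2 m) := by rw [← h1]; group
    _ = _ := by
      rw [al_sq, phi_mul, phi_mul]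
      congr 1
      ring

end Al

/-! ### Lang's theorem -/

section Lang

variable {k : Type u} [Field k] [CharP k 2] [IsAlgClosed k] [PerfectRing k 2]

open Cfsg.Agent.LangThm in
theorem lang4 (m : ℕ) (c : ↥(chevF4.group k)) :
    ∃ z : ↥(chevF4.group k), c = z⁻¹ * (al k * phi chevF4 k 2 m : MulAut ↥(chevF4.group k)) z := by
  have : Fact (Nat.Prime 2) := ⟨Nat.prime_two⟩
  have h1 : chevF4.group k = MM hp4.inList Set.univ k := Cfsg.Agent.BpExc.TorAll.group_eq_MM hp4
  let X : ↥(Set.univ : Set ℕ) → GL chevF4.Idx (Polynomial k) := fun r => xP hp4.inList (r : ℕ) Polynomial.X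
  have h2 : Gam X k = chevF4.group k := by
    rw [h1]
    exact gam_eq hp4.inList Set.univ
  let E : ↥(Gam X k) ≃* ↥(chevF4.group k) := MulEquiv.subgroupCongr h2
  let s : MulAut ↥(chevF4.group k) := al k * phi chevF4 k 2 m
  let F : Monoid.End ↥(Gam X k) := (E.symm.toMonoidHom.comp s.toMonoidHom).comp E.toMonoidHom
  have hE : ∀ g : ↥(Gam X k), ((E g : ↥(chevF4.group k)) : GL chevF4.Idx k) = g := fun g => rfl
  have hE' : ∀ g : ↥(chevF4.group k), ((E.symm g : ↥(Gam X k)) : GL chevF4.Idx k) = g := fun g => rfl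
  have hFE : ∀ g : ↥(Gam X k), F g = E.symm (s (E g)) := fun g => rfl
  let Y : ↥(Set.univ : Set ℕ) → GL chevF4.Idx (Polynomial k) := fun r =>
    if (r : ℕ) < 48 then ev ((Polynomial.X : Polynomial k) ^ (2 ^ m * la r)) (X ⟨br r, trivial⟩) else 1
  have hX0 : ∀ i, ev (0 : k) (X i) = 1 := by
    intro i
    rw [ev_xP, Polynomial.eval_X, xG_zero]
  have hY : ∀ i, Y i ∈ Gam X (Polynomial k) := by
    intro i
    show (if (i : ℕ) < 48 then _ else _) ∈ _
    split_ifs
    · exact ev_mem _ _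
    · exact one_mem _
  have hF : ∀ (i : ↥(Set.univ : Set ℕ)) (a : k), (F ⟨ev a (X i), ev_mem i a⟩ : GL chevF4.Idx k) = ev a (Y i) := by
    intro i a
    have e1 : E ⟨ev a (X i), ev_mem i a⟩ = xS hp4.inList i a := by
      apply Subtype.ext
      rw [hE]
      show ev a (X i) = _
      rw [ev_xP, Polynomial.eval_X]
      rfl
    rw [hFE, e1, hE']
    show ((al k * phi chevF4 k 2 m) (xS hp4.inList i a) : GL chevF4.Idx k) = ev a (if (i : ℕ) < 48 then _ else _)
    by_cases hi : (i : ℕ) < 48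
    · rw [if_pos hi, MulAut.mul_apply, phi_xS, al_xS hi]
      have h3 := mp_ev (Polynomial.aeval a : Polynomial k →ₐ[k] k) ((Polynomial.X : Polynomial k) ^ (2 ^ m * la i))
        (X ⟨br i, trivial⟩)
      have h4 : ev a (ev ((Polynomial.X : Polynomial k) ^ (2 ^ m * la i)) (X ⟨br i, trivial⟩)) =
          ev (a ^ (2 ^ m * la i)) (X ⟨br i, trivial⟩) := by
        rw [show a ^ (2 ^ m * la i) = Polynomial.aeval a ((Polynomial.X : Polynomial k) ^ (2 ^ m * la i)) by
          rw [map_pow, Polynomial.aeval_X]]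
        exact h3
      rw [h4, ev_xP, Polynomial.eval_X, pow_mul]
      rfl
    · rw [if_neg hi, map_one]
      have h3 : xS hp4.inList i a = 1 := by
        apply Subtype.ext
        exact xG_of_not_lt hp4.inList hi _
      rw [h3, map_one]
      rfl
  have hJ : ∀ g : ↥(Gam X k), (((F ^ 2) g : ↥(Gam X k)) : GL chevF4.Idx k) =
      1 * frob 2 (2 * m + 1) (g : GL chevF4.Idx k) * 1⁻¹ := by
    intro g
    have e1 : (F ^ 2) g = E.symm (s (s (E g))) := by
      rw [pow_two]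
      show F (F g) = _
      rw [hFE, hFE, MulEquiv.apply_symm_apply]
    have e2 : s (s (E g)) = phi chevF4 k 2 (2 * m + 1) (E g) := by
      rw [← MulAut.mul_apply]
      exact DFunLike.congr_fun (al_phi_sq m) (E g)
    rw [e1, hE', e2, one_mul, inv_one, mul_one, ← hE g]
    exact phi_frob _ _ _
  obtain ⟨z, hz⟩ := lang (X := X) 2 (2 * m + 1) 2 (by omega) hX0 F hY hF 1 hJ (E.symm c)
  refine ⟨E z, ?_⟩
  have h3 := congrArg E hz
  rw [map_mul, map_inv, hFE, MulEquiv.apply_symm_apply, MulEquiv.apply_symm_apply] at h3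
  exact h3

theorem gam_F4 {F : Type u} [Field F] [CharP F 2] [PerfectRing F 2] [Finite F] [Fact (Nat.Prime 2)] (f : F →+* k) :
    Core.Gam hp4 2 f 1 (al F) (al k) where
  nat a := by
    have h1 : ((al k).toMonoidHom.comp (emb hp4.inList f)) = (emb hp4.inList f).comp (al F).toMonoidHom := by
      apply ext4
      intro r hr t
      have e1 : ∀ (r : ℕ) (t : F), emb hp4.inList f (xS hp4.inList r t) = xS hp4.inList r (f t) := by
        intro r t
        apply Subtype.ext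
        rw [coe_emb]
        exact glMap_xG hp4.inList f r t
      show al k (emb hp4.inList f (xS hp4.inList r t)) = emb hp4.inList f (al F (xS hp4.inList r t))
      rw [e1, al_xS hr, al_xS hr, e1, map_pow]
    exact DFunLike.congr_fun h1 a
  sq := al_sq
  comm m := al_mul_fld _
  lang m _ c := lang4 m c

end Lang

/-! ### graph automorphisms -/

theorem rho_rho4 : ∀ i : Fin 4, (![3, 2, 1, 0] : Fin 4 → Fin 4) ((![3, 2, 1, 0] : Fin 4 → Fin 4) i) = i := by
  decide

/-- the symmetry of the diagram -/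
def rho4 : Equiv.Perm (Fin chevF4.rank) where
  toFun := (![3, 2, 1, 0] : Fin 4 → Fin 4)
  invFun := (![3, 2, 1, 0] : Fin 4 → Fin 4)
  left_inv := rho_rho4
  right_inv := rho_rho4

theorem rho4_symm : chevF4.IsDiagramSymmetry rho4 := by
  unfold ChevalleyDatum.IsDiagramSymmetry
  decide +kernel

theorem rho4_ne : rho4 ≠ 1 := by decide

theorem rho4_tab : ∀ i : Fin chevF4.rank, br (chevF4.simple i) = chevF4.simple (rho4 i) ∧
    br (chevF4.neg (chevF4.simple i)) = chevF4.neg (chevF4.simple (rho4 i)) ∧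
    la (chevF4.simple i) = chevF4.graphExp 2 i (rho4 i) ∧
    la (chevF4.neg (chevF4.simple i)) = chevF4.graphExp 2 i (rho4 i) := by decide +kernel

theorem al_isGr {L : Type v} [Field L] [CharP L 2] [PerfectRing L 2] :
    Cfsg.Agent.H79.OutChev.IsGr hp4.inList rho4
      (fun i => chevF4.graphExp (ringChar L) i (rho4 i)) (al L) := by
  intro i t
  have hr : ringChar L = 2 := ringChar.eq L 2
  obtain ⟨h1, h2, h3, h4⟩ := rho4_tab i
  have hi : (i : ℕ) < 4 := i.isLt
  obtain ⟨h5, h6⟩ := tab_simple i hi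
  constructor
  · show al L (xS hp4.inList (chevF4.simple i) t) = xS hp4.inList (chevF4.simple (rho4 i)) _
    rw [al_xS h6, h1, h3]
    simp only [hr]
  · show al L (xS hp4.inList (chevF4.neg (chevF4.simple i)) t) = xS hp4.inList (chevF4.neg (chevF4.simple (rho4 i))) _
    rw [al_xS h5, h2, h4]
    simp only [hr]

/-- **The nontrivial graph automorphism of `F₄(L)`.** -/
theorem eq_al {L : Type v} [Field L] [CharP L 2] [PerfectRing L 2] {g : MulAut ↥(chevF4.group L)}
    (hg : chevF4.IsGraphAut g) (hg1 : g ≠ 1) : g = al L := by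
  obtain ⟨π, hπs, hπ⟩ := Cfsg.Agent.H79.OutChev.isGraphAut_isGr hp4.inList hg
  have h1 : π ≠ 1 := by
    rintro rfl
    exact hg1 (Cfsg.Agent.H79.OutChev.isGr_one hπ)
  have h2 : π = rho4 := Cfsg.Agent.H79.DiagSymm.eq_of_ne_one (by simp) hπs rho4_symm h1 rho4_ne
  subst h2
  exact hπ.unique al_isGr

/-! ### the result -/

/-- **Graph-field automorphisms of order two of `F₄(F)`.** -/
theorem main {F : Type u} [Field F] [Fintype F] [CharP F 2] [PerfectRing F 2] {x : MulAut ↥(chevF4.group F)}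
    (hx : x * x = 1) {y : ↥(chevF4.group F)} {d g φ : MulAut ↥(chevF4.group F)} (hd : chevF4.IsDiagonalAut d)
    (hg : chevF4.IsGraphAut g) (hφ : chevF4.IsFieldAut φ) (hg1 : g ≠ 1)
    (hxy : ∀ a, x a = y * d (g (φ a)) * y⁻¹) :
    ∃ (m : ℕ) (τ : F ≃+* F) (ζ : MulAut ↥(chevF4.group F)), Fintype.card F = 2 ^ (2 * m + 1) ∧
      (∀ a, τ a = a ^ 2 ^ m) ∧ x = ζ⁻¹ * (al F * fld chevF4 τ) * ζ := by
  have : Fact (Nat.Prime 2) := ⟨Nat.prime_two⟩
  have h1 := charP_closure F 2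
  have hk := locFin_closure F 2
  obtain ⟨n, hn0, hn⟩ := exists_card (F := F) 2
  have hZ : center ↥(chevF4.group (AlgebraicClosure F)) = ⊥ := by
    obtain ⟨a, b⟩ := Cfsg.Agent.S1054.result (F := AlgebraicClosure F) chevF4 (by simp)
    refine KFacts.RgdLieCharP.center_eq_bot ?_
    by_contra hcon
    push Not at hcon
    exact b ⟨⟨hcon⟩⟩
  obtain ⟨τ, rfl⟩ := eq_fld hp4 hφ
  rw [eq_al hg hg1] at hxy
  obtain ⟨m, hm, hτ, -, ζ, hζ⟩ := Core.main hp4 2 (algebraMap F (AlgebraicClosure F))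
    (gam_F4 (algebraMap F (AlgebraicClosure F))) hk hZ inv_F4 (by norm_num)
    (fun c _ => ⟨_, pow_one _⟩) (Or.inr rfl) hn hx hd (fun h => absurd h one_ne_zero) hxy
  refine ⟨m, τ, ζ, ?_, hτ, hζ⟩
  rw [← Nat.card_eq_fintype_card, hn, hm]
  congr 1
  ring

end Cfsg.Agent.H296.FFour

private theorem dce_5107a5f4152b : _root_.True := by
  try have : _root_.True := by simp only [_root_.Cfsg.Agent.H296.FFour.al.congr_simp]
  exact _root_.True.intro
end

-- part: H296/FFourFix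
section
prune_inst 0x20000000002210000000000210000040400004020040000000000100084002400800000000100012120010804001000001100040020000000a000000000000000001000200000008000006000000000000000000000000000000000000000000000000000
set_option linter.all false
open scoped Cfsg.Agent.FastGrp

/-!
# The fixed points of the standard graph-field automorphism of `F₄(2^(2m+1))` (helper296)

* `mem_fixF4` : a fixed element satisfies the matrix condition `F4Fixed.fixF4`;
* `fix_le` : **the fixed points are exactly the elements of `²F₄(2^(2m+1))`** (with `le_fix`).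
-/

set_option autoImplicit false
set_option linter.unusedSectionVars false

namespace Cfsg.Agent.H296.FFour

open CoxeterSystem Subgroup Cfsg Cfsg.Lie Cfsg.Lie.ChevalleyDatum
open Cfsg.Agent.ChevalleyStructure Cfsg.Agent.ChevalleyStructure.Elts Cfsg.Agent.ChevalleyStructure.CoxeterGeom
  Cfsg.Agent.ChevalleyStructure.CoxeterGeomTypes
open Cfsg.Agent.Nodes.RGDChev Cfsg.Agent.KFacts.RgdChevCoord Cfsg.Agent.CpAut.RgdUntw
open Cfsg.Agent.GpExc.Field (glMap emb coe_emb glMap_xG emb_injective coe_glMap)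
open Cfsg.Agent.H79.SimpleGen (xS)
open Cfsg.Agent.ChevalleyStructure.IdealFix Cfsg.Agent.ChevalleyStructure.FixTables
open Cfsg.Agent.ChevalleyStructure.F4Fixed (T4 ok fixF4 theta theta_apply two_eq_zero)

universe u

theorem tab2 : ∀ r < 48, T4.rb (br r) = r ∧ T4.mu (br r) = la r ∧ br (chevF4.neg r) = chevF4.neg (br r) ∧
    la (chevF4.neg r) = la r ∧ chevF4.neg r < 48 ∧ (24 ≤ r → 24 ≤ br r) ∧ (r < 24 → br r < 24) := by
  decide +kernel

variable {F : Type u} [Field F] [Fintype F] [CharP F 2] [PerfectRing F 2]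

/-- the standard graph-field automorphism -/
noncomputable def sg (τ : F ≃+* F) : MulAut ↥(chevF4.group F) := al F * fld chevF4 τ

theorem sg_xS (τ : F ≃+* F) {r : ℕ} (hr : r < 48) (t : F) :
    sg τ (xS hp4.inList r t) = xS hp4.inList (br r) (τ t ^ la r) := by
  unfold sg
  rw [MulAut.mul_apply, fld_xS, al_xS hr]

instance finGL : Finite (GL chevF4.Idx F) := by
  have : Finite (Matrix chevF4.Idx chevF4.Idx F) := inferInstance
  exact Finite.of_injective (fun g : GL chevF4.Idx F => (g : Matrix chevF4.Idx chevF4.Idx F)) Units.val_injective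

/-- the relation between an element and its image -/
def Rl (τ : F ≃+* F) (a : ↥(chevF4.group F)) : Prop :=
  Pres F4Fixed.S ((a : GL chevF4.Idx F) : Matrix chevF4.Idx chevF4.Idx F) ∧
  Pres F4Fixed.S ((sg τ a : GL chevF4.Idx F) : Matrix chevF4.Idx chevF4.Idx F) ∧
  ∀ i j, F4Fixed.S i = true → F4Fixed.S j = true →
    ((sg τ a : GL chevF4.Idx F) : Matrix chevF4.Idx chevF4.Idx F) i j =
      τ (((a : GL chevF4.Idx F) : Matrix chevF4.Idx chevF4.Idx F) (F4Fixed.bar i) (F4Fixed.bar j))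

theorem two0 : ((T4.p : ℤ) : F) = 0 := by
  have h : (2 : F) = 0 := CharTwo.two_eq_zero
  show (((2 : ℕ) : ℤ) : F) = 0
  push_cast
  exact h

theorem rl_xS (τ : F ≃+* F) {r : ℕ} (hr : r < 48) (t : F) : Rl τ (xS hp4.inList r t) := by
  have hb := (tab r hr).1
  obtain ⟨h1, h2, -⟩ := tab2 r hr
  refine ⟨pres_x ok two0 (r := r) hr t, ?_, fun i j hi hj => ?_⟩
  · rw [sg_xS τ hr]
    exact pres_x ok two0 (r := br r) hb _
  · rw [sg_xS τ hr]
    have h3 := x_S_eq ok (K := F) two0 (r := br r) hb (τ t) hi hj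
    rw [h1, h2] at h3
    show chevF4.x F (br r) (τ t ^ la r) i j = _
    rw [show chevF4.x F (br r) (τ t ^ la r) i j = chevF4.x F r (τ t) (F4Fixed.bar i) (F4Fixed.bar j) from h3]
    have h4 := Cfsg.Agent.ChevStructure.FieldMap.x_map chevF4 (τ : F →+* F) r t
    show chevF4.x F r ((τ : F →+* F) t) _ _ = _
    rw [← h4]
    rfl

theorem rl_one (τ : F ≃+* F) : Rl τ (1 : ↥(chevF4.group F)) := by
  refine ⟨pres_one _, by rw [map_one]; exact pres_one _, fun i j hi hj => ?_⟩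
  rw [map_one]
  exact rel_one F4Fixed.bar_bar F4Fixed.S_bar (τ : F →+* F) i j hi hj

theorem rl_mul (τ : F ≃+* F) {a b : ↥(chevF4.group F)} (ha : Rl τ a) (hb : Rl τ b) : Rl τ (a * b) := by
  refine ⟨ha.1.mul hb.1, ?_, fun i j hi hj => ?_⟩
  · rw [map_mul]
    exact ha.2.1.mul hb.2.1
  · have hi' : F4Fixed.S (F4Fixed.bar i) = false := by rw [F4Fixed.S_bar, hi]; rfl
    rw [map_mul]
    show (((sg τ a : GL chevF4.Idx F) : Matrix chevF4.Idx chevF4.Idx F) *
      ((sg τ b : GL chevF4.Idx F) : Matrix chevF4.Idx chevF4.Idx F)) i j =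
      τ ((((a : GL chevF4.Idx F) : Matrix chevF4.Idx chevF4.Idx F) *
        ((b : GL chevF4.Idx F) : Matrix chevF4.Idx chevF4.Idx F)) (F4Fixed.bar i) (F4Fixed.bar j))
    rw [mul_apply_S hb.2.1 hj, mul_apply_not ha.1 hi', map_sum, sum_bar F4Fixed.bar_bar F4Fixed.S_bar]
    apply Finset.sum_congr rfl
    intro k hk
    rw [Finset.mem_filter] at hk
    rw [ha.2.2 i k hi hk.2, hb.2.2 k j hk.2 hj, map_mul]

theorem rl_all (τ : F ≃+* F) (a : ↥(chevF4.group F)) : Rl τ a := by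
  let K : Subgroup ↥(chevF4.group F) := TwF4.Fix.ofSubmonoid
    { carrier := {a | Rl τ a}
      mul_mem' := fun ha hb => rl_mul τ ha hb
      one_mem' := rl_one τ }
  have h1 : K = ⊤ := Cfsg.Agent.H79.SimpleGen.eq_top_of_xS_mem hp4.inList K fun r hr t => rl_xS τ hr t
  have h2 : a ∈ K := by rw [h1]; exact Subgroup.mem_top a
  exact h2

section M

variable {m : ℕ} (hK : Fintype.card F = 2 ^ (2 * m + 1)) {τ : F ≃+* F} (hτ : ∀ a, τ a = a ^ 2 ^ m)

include hτ in
/-- fixed elements satisfy the matrix condition -/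
theorem mem_fixF4 {a : ↥(chevF4.group F)} (ha : sg τ a = a) : (a : GL chevF4.Idx F) ∈ fixF4 hK := by
  rw [F4Fixed.mem_fixF4]
  obtain ⟨h1, -, h2⟩ := rl_all τ a
  refine ⟨h1, fun i j hi hj => ?_⟩
  have h3 := h2 i j hi hj
  rw [ha, hτ] at h3
  exact h3

/-! ### the positive, negative and monomial subgroups -/

theorem map_le {H H' : Subgroup (GL chevF4.Idx F)} (τ : F ≃+* F)
    (h : H ≤ (((H'.subgroupOf (chevF4.group F)).comap (sg τ).toMonoidHom).map (chevF4.group F).subtype)) :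
    ∀ u : ↥(chevF4.group F), (u : GL chevF4.Idx F) ∈ H → ((sg τ u : ↥(chevF4.group F)) : GL chevF4.Idx F) ∈ H' := by
  intro u hu
  obtain ⟨v, hv, e⟩ := h hu
  have e' : v = u := Subtype.ext e
  subst e'
  exact hv

theorem sg_pos (τ : F ≃+* F) : ∀ u : ↥(chevF4.group F), (u : GL chevF4.Idx F) ∈ chevF4.posUnipotent F →
    ((sg τ u : ↥(chevF4.group F)) : GL chevF4.Idx F) ∈ chevF4.posUnipotent F := by
  refine map_le τ ((posUnipotent_le_iff hp4.inList _).2 fun r hr t => ?_)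
  rw [TwF4.Groups.isPosRoot_iff] at hr
  refine ⟨xS hp4.inList r t, ?_, rfl⟩
  show ((sg τ (xS hp4.inList r t) : ↥(chevF4.group F)) : GL chevF4.Idx F) ∈ chevF4.posUnipotent F
  rw [sg_xS τ hr.1]
  exact xG_mem_posUnipotent hp4.inList ((TwF4.Groups.isPosRoot_iff _).2 ⟨(tab r hr.1).1,
    (tab2 r hr.1).2.2.2.2.2.1 hr.2⟩) _

theorem sg_neg (τ : F ≃+* F) : ∀ u : ↥(chevF4.group F), (u : GL chevF4.Idx F) ∈ chevF4.negUnipotent F →
    ((sg τ u : ↥(chevF4.group F)) : GL chevF4.Idx F) ∈ chevF4.negUnipotent F := by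
  refine map_le τ ((negUnipotent_le_iff hp4.inList _).2 fun r hr t => ?_)
  rw [TwF4.Groups.isNegRoot_iff] at hr
  have hr' : r < 48 := by omega
  refine ⟨xS hp4.inList r t, ?_, rfl⟩
  show ((sg τ (xS hp4.inList r t) : ↥(chevF4.group F)) : GL chevF4.Idx F) ∈ chevF4.negUnipotent F
  rw [sg_xS τ hr']
  exact xG_mem_negUnipotent hp4.inList ((TwF4.Groups.isNegRoot_iff _).2 ((tab2 r hr').2.2.2.2.2.2 hr)) _

theorem sg_nS (τ : F ≃+* F) {r : ℕ} (hr : r < 48) (t : F) :
    ((sg τ (Cfsg.Agent.H79.SimpleGen.nS hp4.inList r t) : ↥(chevF4.group F)) : GL chevF4.Idx F) =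
      nG hp4.inList (br r) (τ t ^ la r) := by
  obtain ⟨-, -, h1, h2, h3, -⟩ := tab2 r hr
  rw [Cfsg.Agent.H79.SimpleGen.nS_def, map_mul, map_mul, sg_xS τ hr, sg_xS τ h3, h1, h2, nG_def]
  rw [CharTwo.neg_eq, CharTwo.neg_eq, map_inv₀, inv_pow]
  rfl

theorem sg_mono (τ : F ≃+* F) : ∀ u : ↥(chevF4.group F), (u : GL chevF4.Idx F) ∈ chevF4.monomialSubgroup F →
    ((sg τ u : ↥(chevF4.group F)) : GL chevF4.Idx F) ∈ chevF4.monomialSubgroup F := by
  have hn : ∀ r < 48, ∀ t : F, t ≠ 0 →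
      ((sg τ (Cfsg.Agent.H79.SimpleGen.nS hp4.inList r t) : ↥(chevF4.group F)) : GL chevF4.Idx F) ∈
        chevF4.monomialSubgroup F := by
    intro r hr t ht
    rw [sg_nS τ hr]
    exact Cfsg.Agent.BpExc.EmbTw.nG_mem_mono hp4.inList (tab r hr).1 (pow_ne_zero _ ((map_ne_zero τ).2 ht))
  refine map_le τ ((monomial_le_iff hp4.inList _).2 ⟨fun r hr t ht => ?_, fun r hr => ?_⟩)
  · refine ⟨Cfsg.Agent.H79.SimpleGen.nS hp4.inList r t * Cfsg.Agent.H79.SimpleGen.nS hp4.inList r (-1), ?_, ?_⟩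
    · show ((sg τ (Cfsg.Agent.H79.SimpleGen.nS hp4.inList r t * Cfsg.Agent.H79.SimpleGen.nS hp4.inList r (-1)) :
        ↥(chevF4.group F)) : GL chevF4.Idx F) ∈ chevF4.monomialSubgroup F
      rw [map_mul]
      exact mul_mem (hn r hr t ht) (hn r hr _ (neg_ne_zero.2 one_ne_zero))
    · rw [hG_def]
      rfl
  · exact ⟨Cfsg.Agent.H79.SimpleGen.nS hp4.inList r 1, hn r hr 1 one_ne_zero, rfl⟩

/-! ### the fixed points -/

theorem io_tab : ∀ i : Fin 26, F4Fixed.S (TwF4.Fix.io i) = true ∧ F4Fixed.bar (TwF4.Fix.io i) = TwF4.Fix.ro i := by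
  decide +kernel

theorem fixF4_le {φ : F →+* F} (hφ : TwF4.TwistedFix.Rln φ (2 ^ m)) : fixF4 hK ≤ TwF4.Fix.Fix φ := by
  intro g hg
  rw [F4Fixed.mem_fixF4] at hg
  obtain ⟨h1, h2⟩ := hg
  rw [TwF4.Fix.mem_Fix]
  constructor
  · intro i j
    refine h1 _ _ ?_ (io_tab j).1
    rw [← (io_tab i).2, F4Fixed.S_bar, (io_tab i).1]
    rfl
  · ext i j
    rw [Matrix.map_apply, TwF4.Fix.Cmat_apply, TwF4.Fix.Amat_apply]
    have h3 := h2 _ _ (io_tab i).1 (io_tab j).1
    rw [(io_tab i).2, (io_tab j).2] at h3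
    rw [h3, hφ.phi_pow]

/-- unipotent fixed points -/
theorem pos_le {u : GL chevF4.Idx F} (hu : u ∈ chevF4.posUnipotent F) (h : u ∈ fixF4 hK) :
    u ∈ twistedF4 F (2 ^ m) := by
  obtain ⟨φ, hφ⟩ := TwF4.TwistedFix.exists_rln hK
  refine TwF4.TwistedFix.U_inf_Fix_le hφ ⟨?_, fixF4_le hK hφ h⟩
  rw [← TwF4.Groups.posUnipotent_eq]
  exact hu

open Cfsg.Agent.ChevalleyStructure.TwF4.NStruct Cfsg.Agent.ChevalleyStructure.TwF4.WeylDih
  Cfsg.Agent.ChevalleyStructure.TwF4.Torus in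
/-- torus fixed points -/
theorem tor_le {t : GL chevF4.Idx F} (ht : t ∈ chevF4.diagonalSubgroup F) (h : t ∈ fixF4 hK) :
    t ∈ twistedF4 F (2 ^ m) := by
  rw [diagonal_eq_range] at ht
  obtain ⟨c, rfl⟩ := ht
  obtain ⟨-, h2⟩ := (F4Fixed.mem_fixF4 hK).1 h
  have e1 := h2 (TwF4.TorusFix.rt 33) (TwF4.TorusFix.rt 33) TwF4.TorusFix.S33 TwF4.TorusFix.S33
  have e2 := h2 (TwF4.TorusFix.rt 27) (TwF4.TorusFix.rt 27) TwF4.TorusFix.S27 TwF4.TorusFix.S27
  rw [TwF4.TorusFix.bar33, TwF4.TorusFix.T_rt, TwF4.TorusFix.T_rt] at e1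
  rw [TwF4.TorusFix.bar27, TwF4.TorusFix.T_rt, TwF4.TorusFix.T_rt] at e2
  have e1' : chi c 33 = (chi c 24) ^ 2 ^ m := Units.ext (by rw [e1]; push_cast; rfl)
  have e2' : chi c 27 = (chi c 25) ^ 2 ^ m := Units.ext (by rw [e2]; push_cast; rfl)
  rw [chi33, chi24] at e1'
  rw [chi27, chi25] at e2'
  obtain ⟨f1, f2⟩ := TwF4.TwGen.solve (TwF4.TorusFix.pow_unit hK) _ _ _ _ e1' e2'
  refine (TwF4.TorusFix.T_mem_iff hK c).2 ⟨c 2, c 3, ?_⟩
  funext l
  fin_cases l
  · exact f1
  · exact f2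
  · rfl
  · rfl

open Cfsg.Agent.ChevalleyStructure.TwF4.NStruct Cfsg.Agent.ChevalleyStructure.TwF4.WeylDih in
/-- the permutation of a fixed monomial element -/
theorem perm_bar' {g : GL chevF4.Idx F} (hg : g ∈ fixF4 hK) {σ : Equiv.Perm R} (hσ : HasPerm g σ)
    {s s' : R} (hs : F4Fixed.S (Sum.inr s) = true) (hs' : TwF4.Rel.bar s.val = s'.val) :
    (σ s').val = TwF4.Rel.bar (σ s).val := by
  obtain ⟨h1, h2⟩ := (F4Fixed.mem_fixF4 hK).1 hg
  have hne := (hσ.ne (σ s) s).2 rfl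
  have hS : F4Fixed.S (Sum.inr (σ s)) = true := by
    by_contra hc
    exact hne (h1 _ _ (by simpa using hc) hs)
  have h3 := h2 _ _ hS hs
  have h4 : F4Fixed.bar (Sum.inr s) = Sum.inr s' := by
    rw [F4bar_inr s]
    congr 1
    exact Fin.ext hs'
  rw [h4, F4bar_inr (σ s)] at h3
  have h5 : (g : Matrix chevF4.Idx chevF4.Idx F) (Sum.inr (barR (σ s))) (Sum.inr s') ≠ 0 := by
    intro hz
    rw [hz, zero_pow (by positivity)] at h3
    exact hne h3
  have h6 := (hσ.ne _ s').1 h5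
  exact (congrArg Fin.val h6).symm

open Cfsg.Agent.ChevalleyStructure.TwF4.NStruct Cfsg.Agent.ChevalleyStructure.TwF4.WeylDih in
/-- monomial fixed points -/
theorem mono_le {n : GL chevF4.Idx F} (hn : n ∈ chevF4.monomialSubgroup F) (h : n ∈ fixF4 hK) :
    n ∈ twistedF4 F (2 ^ m) := by
  have hp : HasPerm n (permHom F ⟨n, hn⟩) := hasPerm_permHom ⟨n, hn⟩
  obtain ⟨d, hd⟩ := exists_iota (σ := permHom F ⟨n, hn⟩) (fun r s => permHom_car ⟨n, hn⟩ r s)
    (perm_bar' hK h hp S33' (by decide)) (perm_bar' hK h hp S27' (by decide))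
  obtain ⟨g, hg⟩ := iota_mem_piHom (K := F) (e := 2 ^ m) (by positivity) d
  have hgN : (g : GL chevF4.Idx F) ∈ chevF4.monomialSubgroup F := g.2.1
  have hgT : (g : GL chevF4.Idx F) ∈ twistedF4 F (2 ^ m) := g.2.2
  have h1 : permHom F ⟨(g : GL chevF4.Idx F), hgN⟩ = permHom F ⟨n, hn⟩ := hg.trans hd
  have h2 : permHom F (⟨(g : GL chevF4.Idx F), hgN⟩⁻¹ * ⟨n, hn⟩) = 1 := by
    rw [map_mul, map_inv, h1, inv_mul_cancel]
  have h3 : (g : GL chevF4.Idx F)⁻¹ * n ∈ chevF4.diagonalSubgroup F := (permHom_eq_one_iff _).1 h2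
  have h4 := tor_le hK h3 (mul_mem (inv_mem (F4Fixed.twistedF4_le_fixF4 hK hgT)) h)
  have h5 : n = g * ((g : GL chevF4.Idx F)⁻¹ * n) := by group
  rw [h5]
  exact mul_mem hgT h4

include hK hτ in
/-- **The fixed points lie in `²F₄`.** -/
theorem fix_le {a : ↥(chevF4.group F)} (ha : sg τ a = a) : (a : GL chevF4.Idx F) ∈ twistedF4 F (2 ^ m) := by
  obtain ⟨u, hu, n, hn, v, hv, e, hnv⟩ := Cfsg.Agent.BpExc.FixNorm.exists_form hp4.inList a.2
  obtain ⟨u, rfl⟩ : ∃ u' : ↥(chevF4.group F), (u' : GL chevF4.Idx F) = u :=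
    ⟨⟨u, posUnipotent_le_group hp4.inList F hu⟩, rfl⟩
  obtain ⟨v, rfl⟩ : ∃ v' : ↥(chevF4.group F), (v' : GL chevF4.Idx F) = v :=
    ⟨⟨v, posUnipotent_le_group hp4.inList F hv⟩, rfl⟩
  obtain ⟨n, rfl⟩ : ∃ n' : ↥(chevF4.group F), (n' : GL chevF4.Idx F) = n :=
    ⟨⟨n, monomial_le_group hp4.inList F hn⟩, rfl⟩
  have e1 : a = u * n * v := Subtype.ext e
  have h1 : (sg τ u : GL chevF4.Idx F) * (sg τ n : GL chevF4.Idx F) * (sg τ v : GL chevF4.Idx F) = u * n * v := by
    have h2 := congrArg Subtype.val ha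
    rw [e1, map_mul, map_mul] at h2
    exact h2
  have h2 : (sg τ n : GL chevF4.Idx F) * (sg τ v : GL chevF4.Idx F) * (sg τ n : GL chevF4.Idx F)⁻¹ ∈
      chevF4.negUnipotent F := by
    have h3 := sg_neg τ (n * v * n⁻¹) hnv
    rw [map_mul, map_mul, map_inv] at h3
    exact h3
  obtain ⟨f1, f2, f3⟩ := Cfsg.Agent.BpExc.FixNorm.form_unique hp4.inList (sg_pos τ _ hu) (sg_mono τ _ hn)
    (sg_pos τ _ hv) h2 hu hn hv hnv h1
  rw [e]
  refine mul_mem (mul_mem (pos_le hK hu ?_) (mono_le hK hn ?_)) (pos_le hK hv ?_)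
  · exact mem_fixF4 hK hτ (Subtype.ext f1)
  · exact mem_fixF4 hK hτ (Subtype.ext f2)
  · exact mem_fixF4 hK hτ (Subtype.ext f3)

/-! ### the elements of `²F₄` are fixed -/

/-- the relation `g ↦ g'` -/
def Im (τ : F ≃+* F) (g g' : GL chevF4.Idx F) : Prop :=
  ∃ a : ↥(chevF4.group F), (a : GL chevF4.Idx F) = g ∧ (sg τ a : GL chevF4.Idx F) = g'

theorem Im.mul {τ : F ≃+* F} {g g' h h' : GL chevF4.Idx F} (h1 : Im τ g g') (h2 : Im τ h h') :
    Im τ (g * h) (g' * h') := by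
  obtain ⟨a, rfl, rfl⟩ := h1
  obtain ⟨b, rfl, rfl⟩ := h2
  exact ⟨a * b, rfl, by rw [map_mul]; rfl⟩

theorem Im.inv {τ : F ≃+* F} {g g' : GL chevF4.Idx F} (h1 : Im τ g g') : Im τ g⁻¹ g'⁻¹ := by
  obtain ⟨a, rfl, rfl⟩ := h1
  exact ⟨a⁻¹, rfl, by rw [map_inv]; rfl⟩

open Cfsg.Agent.ChevalleyStructure.TwF4.Rel (X n1 n2 sp) in
theorem im_X (τ : F ≃+* F) {r : ℕ} (hr : r < 48) (t : F) : Im τ (X r t) (X (br r) (τ t ^ la r)) := by
  refine ⟨xS hp4.inList r t, Units.ext rfl, ?_⟩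
  rw [sg_xS τ hr]
  exact Units.ext rfl

open Cfsg.Agent.ChevalleyStructure.TwF4.Rel (X n1 n2 sp) in
theorem tab3 : br 33 = 24 ∧ br 24 = 33 ∧ br 27 = 25 ∧ br 25 = 27 ∧ br 28 = 30 ∧ br 30 = 28 ∧
    la 33 = 2 ∧ la 24 = 1 ∧ la 27 = 2 ∧ la 25 = 1 ∧ la 28 = 2 ∧ la 30 = 1 := by decide +kernel

theorem tab4 : ∀ i < 4, br (TwF4.Rel.sp i) = TwF4.Rel.sp (3 - i) ∧ br (47 - TwF4.Rel.sp i) = 47 - TwF4.Rel.sp (3 - i) ∧
    TwF4.Rel.sp i < 48 := by decide +kernel

theorem im_nG (τ : F ≃+* F) {i : ℕ} (hi : i < 4) :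
    Im τ (TwF4.Rel.nG F (TwF4.Rel.sp i)) (TwF4.Rel.nG F (TwF4.Rel.sp (3 - i))) := by
  obtain ⟨h1, h2, h3⟩ := tab4 i hi
  have h := ((im_X τ h3 1).mul (im_X τ (r := 47 - TwF4.Rel.sp i) (by omega) 1)).mul (im_X τ h3 1)
  rw [map_one, one_pow, one_pow, h1, h2] at h
  exact h

theorem im_NW (τ : F ≃+* F) {w : List ℕ} (hw : ∀ i ∈ w, i < 4) :
    Im τ (TwF4.RankOne.NW F w) (TwF4.RankOne.NW F (w.map fun i => 3 - i)) := by
  induction w with
  | nil => exact ⟨1, rfl, by rw [map_one]; rfl⟩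
  | cons i w ih =>
    rw [TwF4.RankOne.NW_cons, List.map_cons, TwF4.RankOne.NW_cons]
    exact (im_nG τ (hw i List.mem_cons_self)).mul (ih fun j hj => hw j (List.mem_cons_of_mem _ hj))

theorem im_n1 (τ : F ≃+* F) : Im τ (TwF4.Rel.n1 F) (TwF4.Rel.n1 F) := by
  have h := im_NW τ (w := [0, 3]) (by decide)
  have h1 : TwF4.RankOne.NW F ([0, 3].map fun i => 3 - i) = TwF4.RankOne.NW F [0, 3] :=
    TwF4.RankOne.NW_eq_of_mat1 _ _ (by decide +kernel)
  rw [h1, ← TwF4.TwistedFix.n1_eq_NW] at h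
  exact h

theorem im_n2 (τ : F ≃+* F) : Im τ (TwF4.Rel.n2 F) (TwF4.Rel.n2 F) := by
  have h := im_NW τ (w := [1, 2, 1, 2]) (by decide)
  have h1 : TwF4.RankOne.NW F ([1, 2, 1, 2].map fun i => 3 - i) = TwF4.RankOne.NW F [1, 2, 1, 2] :=
    TwF4.RankOne.NW_eq_of_mat1 _ _ (by decide +kernel)
  rw [h1, ← TwF4.TwistedFix.n2_eq_NW] at h
  exact h

include hK hτ in
theorem tau_two (t : F) : τ (t ^ 2 ^ m) ^ 2 = t := by
  rw [hτ]
  exact F4Fixed.theta_theta hK t

include hK hτ in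
theorem im_xa (t : F) : Im τ (TwF4.TwistedFix.xa (2 ^ m) t) (TwF4.TwistedFix.xa (2 ^ m) t) := by
  have h := (im_X τ (r := 33) (by norm_num) (t ^ 2 ^ m)).mul (im_X τ (r := 24) (by norm_num) t)
  obtain ⟨h1, h2, -, -, -, -, h3, h4, -⟩ := tab3
  rw [h1, h2, h3, h4, tau_two hK hτ, pow_one, TwF4.Twisted.c24_33, hτ] at h
  exact h

include hK hτ in
theorem im_xb (t u : F) : Im τ (TwF4.TwistedFix.xb (2 ^ m) t u) (TwF4.TwistedFix.xb (2 ^ m) t u) := by
  have h := (((im_X τ (r := 27) (by norm_num) (t ^ 2 ^ m)).mul (im_X τ (r := 25) (by norm_num) t)).mul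
    (im_X τ (r := 28) (by norm_num) (t ^ (2 ^ m + 1) + u))).mul (im_X τ (r := 30) (by norm_num) (u ^ (2 * 2 ^ m)))
  obtain ⟨-, -, h1, h2, h3, h4, -, -, h5, h6, h7, h8⟩ := tab3
  rw [h1, h2, h3, h4, h5, h6, h7, h8, tau_two hK hτ, pow_one, pow_one, TwF4.TwistedFix.X25_X27_eq] at h
  have e1 : τ (u ^ (2 * 2 ^ m)) = u := by
    have h9 := tau_two hK hτ u
    rw [← map_pow, ← pow_mul, mul_comm] at h9
    exact h9
  have e2 : t * τ t + τ (u ^ (2 * 2 ^ m)) = t ^ (2 ^ m + 1) + u := by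
    rw [e1, hτ]; ring
  have e3 : t * τ t ^ 2 + τ (t ^ (2 ^ m + 1) + u) ^ 2 = u ^ (2 * 2 ^ m) := by
    rw [map_add, pow_succ t (2 ^ m), map_mul, CharTwo.add_sq, mul_pow, tau_two hK hτ, ← add_assoc,
      CharTwo.add_self_eq_zero, zero_add, hτ, ← pow_mul, mul_comm]
  rw [e2, e3, hτ] at h
  exact h

include hK hτ in
/-- **The elements of `²F₄` are fixed.** -/
theorem le_fix {g : GL chevF4.Idx F} (hg : g ∈ twistedF4 F (2 ^ m)) :
    ∃ a : ↥(chevF4.group F), (a : GL chevF4.Idx F) = g ∧ sg τ a = a := by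
  let S : Subgroup (GL chevF4.Idx F) := (fixedSubgroup (sg τ)).map (chevF4.group F).subtype
  have hS : ∀ g, Im τ g g → g ∈ S := by
    rintro g ⟨a, rfl, h⟩
    exact ⟨a, Subtype.ext h, rfl⟩
  have h1 : twistedF4 F (2 ^ m) ≤ S := by
    rw [TwF4.TwistedFix.twisted_le_iff]
    refine ⟨fun t => hS _ (im_xa hK hτ t), fun t => hS _ (((im_n1 τ).mul (im_xa hK hτ t)).mul (im_n1 τ).inv),
      fun t u => hS _ (im_xb hK hτ t u), fun t u => hS _ (((im_n2 τ).mul (im_xb hK hτ t u)).mul (im_n2 τ).inv)⟩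
  obtain ⟨a, ha, e⟩ := h1 hg
  exact ⟨a, e, ha⟩

include hK hτ in
/-- **The fixed subgroup is `²F₄`.** -/
theorem fixed_equiv : Nonempty (↥(fixedSubgroup (sg τ)) ≃* ↥(twistedF4 F (2 ^ m))) := by
  let ι : ↥(fixedSubgroup (sg τ)) →* GL chevF4.Idx F := (chevF4.group F).subtype.comp (fixedSubgroup (sg τ)).subtype
  have hι : Function.Injective ι := fun a b h => Subtype.ext (Subtype.ext h)
  have h1 : ι.range = twistedF4 F (2 ^ m) := by
    ext g
    constructor
    · rintro ⟨a, rfl⟩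
      exact fix_le hK hτ a.2
    · intro hg
      obtain ⟨a, rfl, ha⟩ := le_fix hK hτ hg
      exact ⟨⟨a, ha⟩, rfl⟩
  exact ⟨(MonoidHom.ofInjective hι).trans (MulEquiv.subgroupCongr h1)⟩

end M

end Cfsg.Agent.H296.FFour
end
end
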