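import Mathlib
import Cfsg.Agent.FastGrp
import Cfsg.Agent.Prune
set_option linter.all false
prune_inst 0x7f00000000000000000000000000000000000000000000000000000000000000000000000000000000000000000000000000000000000000000000000000000000000000000000000000000000000000003fffffffffffffffffffffffffffbeffbdffffffff
open scoped Cfsg.Agent.FastGrp

/-!
# Elements of order `l` commuting with elements of order `p`: one element is enough (helper296)

`l` a prime dividing the order of `K` exactly once, `p ∤ l - 1`.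

* `sylow_cent` : `x ∈ N ⊴ D`, `N` a `p'`-group: a Sylow `p`-subgroup of `D` centralizes `x`;
* `full_sylow` : if for all commuting `y`, `x` of orders `p`, `l` the element `x` lies in a normal `p'`-subgroup of `C(y)`,
  and there are such `y`, `x`, then a Sylow `p`-subgroup of `K` centralizes an element of order `l`;
* `not_comm` : hence there are no such elements if `l ∤ |C(y₀)|` for one `y₀` of order `p`.
-/

set_option autoImplicit false

namespace Cfsg.Agent.H296.OneElt

open Subgroup

open scoped Pointwise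

section

variable {D : Type*} [Group D] [Finite D] {p l : ℕ} [hp : Fact p.Prime] [hl : Fact l.Prime]

omit hp in
/-- `|D : N_D(X)|` divides `|N|` for a Sylow subgroup `X` of `D` contained in the normal subgroup `N` -/
theorem index_dvd {N : Subgroup D} [N.Normal] (X : Sylow l D) (hX : (X : Subgroup D) ≤ N) :
    (normalizer ((X : Subgroup D) : Set D)).index ∣ Nat.card N := by
  set M := normalizer ((X : Subgroup D) : Set D) with hM
  have h1 : M ⊔ N = ⊤ := X.normalizer_sup_eq_top' hX
  have h2 : N.relIndex M = N.index := by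
    have := Subgroup.relIndex_sup_right (H := M) (K := N)
    rw [h1, relIndex_top_right] at this
    exact this.symm
  have h3 : Nat.card ↥(N.subgroupOf M) * N.relIndex M = Nat.card M := Subgroup.card_mul_index (N.subgroupOf M)
  have h4 := N.card_mul_index
  have h5 := M.card_mul_index
  rw [h2] at h3
  have hM0 : 0 < Nat.card M := Nat.card_pos
  have h6 : Nat.card M * (M.index * Nat.card ↥(N.subgroupOf M)) = Nat.card M * Nat.card N := by
    calc Nat.card M * (M.index * Nat.card ↥(N.subgroupOf M)) = Nat.card M * M.index * Nat.card ↥(N.subgroupOf M) := by ring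
      _ = Nat.card N * N.index * Nat.card ↥(N.subgroupOf M) := by rw [h5, h4]
      _ = Nat.card ↥(N.subgroupOf M) * N.index * Nat.card N := by ring
      _ = Nat.card M * Nat.card N := by rw [h3]
  exact Dvd.intro _ (Nat.eq_of_mul_eq_mul_left hM0 h6)

omit hp hl in
/-- `|N(X) : C(X)|` divides `l - 1` for `X` of prime order `l` -/
theorem relIndex_dvd (hl' : l.Prime) {X : Subgroup D} (hX : Nat.card X = l) :
    (centralizer (X : Set D)).relIndex (normalizer (X : Set D)) ∣ l - 1 := by
  have : Fact l.Prime := ⟨hl'⟩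
  have hcyc : IsCyclic X := isCyclic_of_prime_card hX
  have h1 : Nat.card (MulAut X) = l - 1 := by
    rw [IsCyclic.card_mulAut, hX, Nat.totient_prime hl']
  rw [← h1]
  have h2 : (centralizer (X : Set D)).relIndex (normalizer (X : Set D)) =
      Nat.card (X.normalizerMonoidHom).range := by
    rw [← Subgroup.index_ker, Subgroup.normalizerMonoidHom_ker]
    rfl
  rw [h2]
  exact Subgroup.card_subgroup_dvd_card _

/-- a subgroup of index prime to `p` contains a Sylow `p`-subgroup -/
theorem exists_sylow_le {H : Subgroup D} (h : ¬ p ∣ H.index) : ∃ Q : Sylow p D, (Q : Subgroup D) ≤ H := by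
  obtain ⟨Q⟩ : Nonempty (Sylow p H) := inferInstance
  have h1 : Nat.card ↥((Q : Subgroup H).map H.subtype) = p ^ (Nat.card D).factorization p := by
    rw [Subgroup.card_map_of_injective H.subtype_injective, Q.card_eq_multiplicity, ← H.card_mul_index,
      Nat.factorization_mul Nat.card_pos.ne' Subgroup.index_ne_zero_of_finite, Finsupp.add_apply,
      Nat.factorization_eq_zero_of_not_dvd h, add_zero]
  refine ⟨Sylow.ofCard _ h1, ?_⟩
  rintro _ ⟨a, -, rfl⟩
  exact a.2

theorem sylow_cent (hpl : ¬ p ∣ l - 1) (hl2 : ¬ l ^ 2 ∣ Nat.card D) {N : Subgroup D} [N.Normal]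
    (hN : ¬ p ∣ Nat.card N) {x : D} (hxN : x ∈ N) (hx : orderOf x = l) :
    ∃ Q : Sylow p D, ∀ q ∈ (Q : Subgroup D), q * x = x * q := by
  have hXc : Nat.card ↥(zpowers x) = l := by rw [Nat.card_zpowers, hx]
  have hfac : (Nat.card D).factorization l = 1 := by
    have h1 : l ∣ Nat.card D := by rw [← hx]; exact orderOf_dvd_natCard x
    have h0 : Nat.card D ≠ 0 := Nat.card_pos.ne'
    have h2 := (Nat.Prime.dvd_iff_one_le_factorization hl.1 h0).1 h1
    have h3 : ¬ 2 ≤ (Nat.card D).factorization l := fun h =>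
      hl2 ((hl.1.pow_dvd_iff_le_factorization h0).2 h)
    omega
  let X : Sylow l D := Sylow.ofCard (zpowers x) (by rw [hXc, hfac, pow_one])
  have hX : (X : Subgroup D) = zpowers x := rfl
  have hXN : (X : Subgroup D) ≤ N := by rw [hX, zpowers_le]; exact hxN
  have h1 := index_dvd X hXN
  have h2 := relIndex_dvd hl.1 hXc
  rw [hX] at h1
  have h3 : ¬ p ∣ (centralizer ((zpowers x : Subgroup D) : Set D)).index := by
    rw [← Subgroup.relIndex_mul_index (centralizer_le_normalizer ((zpowers x : Subgroup D) : Set D))]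
    intro h
    rcases (Nat.Prime.dvd_mul hp.1).1 h with h | h
    · exact hpl (h.trans h2)
    · exact hN (h.trans h1)
  obtain ⟨Q, hQ⟩ := exists_sylow_le h3
  exact ⟨Q, fun q hq => ((mem_centralizer_iff.1 (hQ hq)) x (mem_zpowers x)).symm⟩

end

section

variable {K : Type*} [Group K] [Finite K] {p l : ℕ} [hp : Fact p.Prime] [hl : Fact l.Prime]

/-- `x` lies in a normal `p'`-subgroup of `C(y)` -/
def InCore (p : ℕ) (x y : K) : Prop :=
  ∃ (hxy : x ∈ centralizer ({y} : Set K)) (N : Subgroup ↥(centralizer ({y} : Set K))), N.Normal ∧ ¬ p ∣ Nat.card N ∧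
    (⟨x, hxy⟩ : ↥(centralizer ({y} : Set K))) ∈ N

theorem step (hpl : ¬ p ∣ l - 1) (hl2 : ¬ l ^ 2 ∣ Nat.card K) {x y : K} (hx : orderOf x = l) (h : InCore p x y) :
    ∃ Q : Sylow p ↥(centralizer ({y} : Set K)), ∀ q ∈ (Q : Subgroup ↥(centralizer ({y} : Set K))), (q : K) * x = x * q := by
  obtain ⟨hxy, N, hN, hNp, hxN⟩ := h
  obtain ⟨Q, hQ⟩ := sylow_cent (p := p) (l := l) hpl (fun h => hl2 (h.trans (Subgroup.card_subgroup_dvd_card _)))
    hNp hxN (by rw [← hx, Subgroup.orderOf_mk])
  exact ⟨Q, fun q hq => congrArg Subtype.val (hQ q hq)⟩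

/-- **A Sylow `p`-subgroup centralizes an element of order `l`.** -/
theorem full_sylow (hpl : ¬ p ∣ l - 1) (hl2 : ¬ l ^ 2 ∣ Nat.card K)
    (core : ∀ x y : K, orderOf x = l → orderOf y = p → x * y = y * x → InCore p x y)
    {x y : K} (hx : orderOf x = l) (hy : orderOf y = p) (hxy : x * y = y * x) :
    ∃ (P : Sylow p K) (x' : K), orderOf x' = l ∧ ∀ g ∈ (P : Subgroup K), g * x' = x' * g := by
  -- a Sylow subgroup of `C(x)` containing ... and its overgroup
  set C := centralizer ({x} : Set K) with hC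
  obtain ⟨P0⟩ : Nonempty (Sylow p C) := inferInstance
  have hyC : y ∈ C := mem_centralizer_singleton_iff.2 hxy.symm
  have hpC : p ∣ Nat.card C := by
    rw [← hy, ← Subgroup.orderOf_mk y hyC]
    exact orderOf_dvd_natCard _
  have hP0 : IsPGroup p ↥((P0 : Subgroup C).map C.subtype) := P0.isPGroup'.map _
  obtain ⟨P, hP⟩ := hP0.exists_le_sylow
  -- an element of order `p` of `P0`
  have hpP0 : p ∣ Nat.card P0 := P0.dvd_card_of_dvd_card hpC
  obtain ⟨y0, hy0⟩ := exists_prime_orderOf_dvd_card' p hpP0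
  have hy0' : orderOf ((y0 : C) : K) = p := by rw [Subgroup.orderOf_coe, Subgroup.orderOf_coe, hy0]
  have hy0P : ((y0 : C) : K) ∈ (P : Subgroup K) := hP ⟨y0, y0.2, rfl⟩
  have hy0x : x * ((y0 : C) : K) = (y0 : C) * x := (mem_centralizer_singleton_iff.1 (y0 : C).2).symm
  -- a central element of `P` of order `p`
  have hPn : Nontrivial P := by
    refine ⟨⟨⟨_, hy0P⟩, 1, fun h => ?_⟩⟩
    have h1 : ((y0 : C) : K) = 1 := congrArg Subtype.val h
    rw [h1, orderOf_one] at hy0'
    exact hp.1.one_lt.ne hy0'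
  have hZ : Nontrivial (center P) := P.isPGroup'.center_nontrivial
  have hZp : p ∣ Nat.card (center P) := by
    obtain ⟨n, hn⟩ := (P.isPGroup'.to_subgroup (center P)).exists_card_eq
    rw [hn]
    refine dvd_pow_self _ ?_
    rintro rfl
    rw [pow_zero] at hn
    have := Finite.one_lt_card (α := ↥(center P))
    omega
  obtain ⟨z, hz⟩ := exists_prime_orderOf_dvd_card' p hZp
  have hz' : orderOf ((z : P) : K) = p := by rw [Subgroup.orderOf_coe, Subgroup.orderOf_coe, hz]
  have hzP : ∀ g ∈ (P : Subgroup K), g * ((z : P) : K) = (z : P) * g := fun g hg =>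
    congrArg Subtype.val ((mem_center_iff.1 z.2) ⟨g, hg⟩)
  -- move `z` into `C(x)`
  set D := centralizer ({((y0 : C) : K)} : Set K) with hD
  obtain ⟨Q, hQ⟩ : ∃ Q : Sylow p ↥D, ∀ q ∈ (Q : Subgroup ↥D), (q : K) * x = x * q :=
    step hpl hl2 hx (core x _ hx hy0' hy0x)
  have hzD : ((z : P) : K) ∈ D := mem_centralizer_singleton_iff.2 (hzP _ hy0P).symm
  have hzp : IsPGroup p ↥(zpowers (⟨((z : P) : K), hzD⟩ : D)) :=
    IsPGroup.of_card (n := 1) (by rw [Nat.card_zpowers, Subgroup.orderOf_mk, hz', pow_one])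
  obtain ⟨Q', hQ'⟩ := hzp.exists_le_sylow
  obtain ⟨d, hd⟩ := MulAction.exists_smul_eq D Q' Q
  have hzQ : d * (⟨((z : P) : K), hzD⟩ : D) * d⁻¹ ∈ (Q : Subgroup D) := by
    rw [← hd, Sylow.coe_subgroup_smul]
    exact Subgroup.smul_mem_pointwise_smul (a := MulAut.conj d) _ _ (hQ' (mem_zpowers _))
  set z' : K := (d : K) * ((z : P) : K) * (d : K)⁻¹ with hz'def
  have hz'x : z' * x = x * z' := hQ (d * (⟨((z : P) : K), hzD⟩ : D) * d⁻¹) hzQ
  have hz'o : orderOf z' = p := by
    rw [← hz']
    exact (MulEquiv.orderOf_eq (MulAut.conj (d : K)) ((z : P) : K))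
  -- the order of `Q2`
  set E := centralizer ({z'} : Set K) with hE
  obtain ⟨Q2, hQ2⟩ : ∃ Q : Sylow p ↥E, ∀ q ∈ (Q : Subgroup ↥E), (q : K) * x = x * q :=
    step hpl hl2 hx (core x z' hx hz'o hz'x.symm)
  have hPE : (MulAut.conj (d : K) • (P : Subgroup K)) ≤ E := by
    rintro _ ⟨g, hg, rfl⟩
    rw [hE, mem_centralizer_singleton_iff]
    show (d : K) * g * (d : K)⁻¹ * z' = z' * ((d : K) * g * (d : K)⁻¹)
    have h1 := hzP g hg
    rw [hz'def]
    calc (d : K) * g * (d : K)⁻¹ * ((d : K) * ((z : P) : K) * (d : K)⁻¹) = d * (g * ((z : P) : K)) * (d : K)⁻¹ := by group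
      _ = d * (((z : P) : K) * g) * (d : K)⁻¹ := by rw [h1]
      _ = _ := by group
  have hcE : p ^ (Nat.card K).factorization p ∣ Nat.card E := by
    rw [← P.card_eq_multiplicity]
    have h1 : Nat.card ↥(MulAut.conj (d : K) • (P : Subgroup K)) = Nat.card P :=
      (Nat.card_congr (Subgroup.equivSMul (MulAut.conj (d : K)) (P : Subgroup K)).toEquiv).symm
    rw [← h1]
    exact Subgroup.card_dvd_of_le hPE
  have hcQ : Nat.card ↥((Q2 : Subgroup E).map E.subtype) = p ^ (Nat.card K).factorization p := by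
    rw [Subgroup.card_map_of_injective E.subtype_injective, Q2.card_eq_multiplicity]
    congr 1
    apply le_antisymm
    · exact (Nat.factorization_le_iff_dvd Nat.card_pos.ne' Nat.card_pos.ne').2 (Subgroup.card_subgroup_dvd_card E) p
    · exact (hp.1.pow_dvd_iff_le_factorization Nat.card_pos.ne').1 hcE
  refine ⟨Sylow.ofCard _ hcQ, x, hx, ?_⟩
  rintro _ ⟨q, hq, rfl⟩
  exact hQ2 q hq

/-- **One element is enough.** -/
theorem not_comm (hpl : ¬ p ∣ l - 1) (hl2 : ¬ l ^ 2 ∣ Nat.card K)
    (core : ∀ x y : K, orderOf x = l → orderOf y = p → x * y = y * x → InCore p x y)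
    {y0 : K} (hy0 : ∃ k, y0 ^ p ^ k = 1) (h0 : ¬ l ∣ Nat.card (centralizer ({y0} : Set K)))
    {x y : K} (hx : orderOf x = l) (hy : orderOf y = p) : x * y ≠ y * x := by
  intro hxy
  obtain ⟨P, x', hx', hP⟩ := full_sylow hpl hl2 core hx hy hxy
  obtain ⟨k, hk⟩ := hy0
  have h1 : IsPGroup p ↥(zpowers y0) := by
    obtain ⟨j, -, hj⟩ := (Nat.dvd_prime_pow hp.1).1 (orderOf_dvd_of_pow_eq_one hk)
    exact IsPGroup.of_card (n := j) (by rw [Nat.card_zpowers, hj])
  obtain ⟨P', hP'⟩ := h1.exists_le_sylow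
  obtain ⟨g, hg⟩ := MulAction.exists_smul_eq K P' P
  have h2 : g * y0 * g⁻¹ ∈ (P : Subgroup K) := by
    rw [← hg, Sylow.coe_subgroup_smul]
    exact Subgroup.smul_mem_pointwise_smul (a := MulAut.conj g) _ _ (hP' (mem_zpowers _))
  have h3 := hP _ h2
  apply h0
  have h4 : g⁻¹ * x' * g ∈ centralizer ({y0} : Set K) := by
    rw [mem_centralizer_singleton_iff]
    calc g⁻¹ * x' * g * y0 = g⁻¹ * (x' * (g * y0 * g⁻¹)) * g := by group
      _ = g⁻¹ * ((g * y0 * g⁻¹) * x') * g := by rw [h3]
      _ = y0 * (g⁻¹ * x' * g) := by group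
  have h5 : orderOf (g⁻¹ * x' * g) = l := by
    rw [← hx']
    have := MulEquiv.orderOf_eq (MulAut.conj g⁻¹) x'
    rw [MulAut.conj_apply, inv_inv] at this
    exact this
  rw [← h5, ← Subgroup.orderOf_mk _ h4]
  exact orderOf_dvd_natCard _

end

end Cfsg.Agent.H296.OneElt
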