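import Mathlib
import Cfsg.Prelude.Def_EvenType
import Cfsg.Agent.S1324
import Cfsg.Agent.Nodes.CardSup_m3
import Cfsg.Agent.Nodes.LeviDec
import Cfsg.Agent.Nodes.NormalForm
import Cfsg.Agent.KFacts.RgdFiltChev
import Cfsg.Agent.SigTab.RestList_m3
import Cfsg.Agent.ChevFast.F4
import Cfsg.Agent.FastGrp
import Cfsg.Agent.Prune
set_option linter.all false

section
prune_inst 0x7fbcfefbafb8afdfffff7e7ffefddffff9f9dfffe6dff9fbffe8e1ff8bdf4b04ebe5fb8f7fe010ff2ef7e0be10b87b53f97ecf7fee6bdc7ffffd5ff41fffee1ff5f7b78c71f5bc3e1ffc6fff8bf97f8e7f3fffffffffffffffffffffffffffbeffffffffffff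

-- part: SigTab/AltFFour
section
set_option linter.all false
open scoped Cfsg.Agent.FastGrp

-- merged: Cfsg.Agent.SigZero.ATwelve
section

/-!
# `σ(A₁₂) = ∅`

* `twoLocalPRankLE_of_centralizer` : if `p ^ k` divides no involution centralizer order, then every 2-local subgroup
  has `p`-rank at most `k` (`p` odd).
* `odd_rank` : every 2-local subgroup of `A₁₂` has `p`-rank at most 3 for all odd primes `p`.
* `sigma_empty` : `sigmaSet A₁₂ = ∅`.
-/

set_option autoImplicit false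

namespace Cfsg.Agent.SigZero.ATwelve

open Cfsg Subgroup

/-- Coprime action: a noncyclic elementary abelian `p`-group normalizing a nontrivial 2-group has a subgroup of
index at most `p` centralizing an involution. -/
theorem exists_involution {G : Type*} [Group G] [Finite G] {p : ℕ} [Fact p.Prime] (hp2 : p ≠ 2)
    {T A : Subgroup G} (hT : IsPGroup 2 ↥T) (hT1 : T ≠ ⊥) (hA : IsMulCommutative A) (hAp : ∀ a ∈ A, a ^ p = 1)
    (hA2 : p ^ 2 ≤ Nat.card ↥A) (hN : A ≤ normalizer (T : Set G)) :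
    ∃ t ∈ T, orderOf t = 2 ∧ ∃ B ≤ A, B.relIndex A ≤ p ∧ B ≤ centralizer ({t} : Set G) := by
  have hpp : p.Prime := Fact.out
  have hnd : ¬ p ∣ Nat.card ↥T := by
    intro hd
    obtain ⟨n, hn⟩ := (IsPGroup.iff_card (p := 2)).1 hT
    rw [hn] at hd
    exact hp2 ((Nat.prime_dvd_prime_iff_eq hpp Nat.prime_two).1 (hpp.dvd_of_dvd_pow hd))
  have key := Cfsg.Agent.S1324.result p A T ⟨hA, hAp⟩ hA2 hnd hN
  have hex : ∃ B : {B : Subgroup G // B ≤ A ∧ B.relIndex A ≤ p}, T ⊓ centralizer ((B : Subgroup G) : Set G) ≠ ⊥ := by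
    by_contra hcon
    push Not at hcon
    apply hT1
    rw [key, iSup_eq_bot]
    exact hcon
  obtain ⟨⟨B, hBA, hBi⟩, hB⟩ := hex
  have h2 : IsPGroup 2 ↥(T ⊓ centralizer (B : Set G)) := hT.to_le inf_le_left
  have hne : Nontrivial ↥(T ⊓ centralizer (B : Set G)) := (Subgroup.nontrivial_iff_ne_bot _).2 hB
  obtain ⟨x, hx⟩ := exists_prime_orderOf_dvd_card' (G := ↥(T ⊓ centralizer (B : Set G))) 2 (by
    obtain ⟨n, hn⟩ := (IsPGroup.iff_card (p := 2)).1 h2
    rw [hn]
    refine dvd_pow_self _ ?_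
    rintro rfl
    rw [pow_zero] at hn
    have := Finite.one_lt_card (α := ↥(T ⊓ centralizer (B : Set G)))
    omega)
  refine ⟨x.1, x.2.1, ?_, B, hBA, hBi, ?_⟩
  · rw [← hx]; exact Subgroup.orderOf_coe x
  · intro b hb
    rw [mem_centralizer_singleton_iff]
    have := (mem_centralizer_iff.1 x.2.2) b hb
    exact this

/-- If `p ^ k` divides the order of no involution centralizer, `p` odd, then 2-locals have `p`-rank at most `k`. -/
theorem twoLocalPRankLE_of_centralizer {G : Type*} [Group G] [Finite G] {p : ℕ} (hp : p.Prime) (hp2 : p ≠ 2)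
    {k : ℕ} (hk : 1 ≤ k) (h : ∀ t : G, orderOf t = 2 → ¬ p ^ k ∣ Nat.card ↥(centralizer ({t} : Set G))) :
    TwoLocalPRankLE p k G := by
  have : Fact p.Prime := ⟨hp⟩
  rintro H ⟨T, hT, hT1, rfl⟩ A hA hAp
  by_contra hcon
  push Not at hcon
  -- the group `A` in `G`
  set A' : Subgroup G := A.map (normalizer (T : Set G)).subtype with hA'
  have hcard : Nat.card ↥A' = Nat.card ↥A := Subgroup.card_map_of_injective (Subgroup.subtype_injective _)
  have hAc' : IsMulCommutative A' := by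
    refine ⟨⟨?_⟩⟩
    rintro ⟨_, a, ha, rfl⟩ ⟨_, b, hb, rfl⟩
    have h1 := hA.is_comm.comm ⟨a, ha⟩ ⟨b, hb⟩
    have h2 : a * b = b * a := congrArg Subtype.val h1
    apply Subtype.ext
    exact congrArg (normalizer (T : Set G)).subtype h2
  have hAp' : ∀ a ∈ A', a ^ p = 1 := by
    rintro _ ⟨a, ha, rfl⟩
    rw [← map_pow, hAp a ha, map_one]
  have hpg : ∀ {B : Subgroup G}, B ≤ A' → IsPGroup p ↥B := by
    intro B hB b
    exact ⟨1, Subtype.ext (by simpa only [_root_.pow_one, _root_.SubmonoidClass.coe_pow, _root_.OneMemClass.coe_one] using hAp' b.1 (hB b.2))⟩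
  obtain ⟨m, hm⟩ := (IsPGroup.iff_card (p := p)).1 (hpg (le_refl A'))
  have hmk : k + 1 ≤ m := by
    by_contra hmk
    have h1 : p ^ m ≤ p ^ k := Nat.pow_le_pow_right hp.pos (by omega)
    omega
  have hA2 : p ^ 2 ≤ Nat.card ↥A' := by
    rw [hm]; exact Nat.pow_le_pow_right hp.pos (by omega)
  have hN : A' ≤ normalizer (T : Set G) := by
    rintro _ ⟨a, ha, rfl⟩
    exact a.2
  obtain ⟨t, -, ht2, B, hBA, hBi, hBc⟩ := exists_involution hp2 hT hT1 hAc' hAp' hA2 hN
  refine h t ht2 (dvd_trans ?_ (Subgroup.card_dvd_of_le hBc))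
  obtain ⟨n, hn⟩ := (IsPGroup.iff_card (p := p)).1 (hpg hBA)
  rw [hn]
  refine pow_dvd_pow p ?_
  by_contra hnk
  have h1 : B.relIndex A' * Nat.card ↥B = Nat.card ↥A' := by
    have h2 := Subgroup.card_mul_index (B.subgroupOf A')
    rw [Nat.card_congr (Subgroup.subgroupOfEquivOfLe hBA).toEquiv] at h2
    rw [mul_comm]
    exact h2
  have h2 : Nat.card ↥A' ≤ p * p ^ n := by
    rw [← h1, hn]
    exact Nat.mul_le_mul_right _ hBi
  have h3 : p * p ^ n < p ^ m := by
    rw [← pow_succ']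
    exact Nat.pow_lt_pow_right hp.one_lt (by omega)
  omega

theorem card_alt : Nat.card ↥(alternatingGroup (Fin 12)) = 239500800 := by
  have h1 := nat_card_alternatingGroup (α := Fin 12)
  rw [h1, Nat.card_eq_fintype_card, Fintype.card_fin]
  decide

/-- `e(G) ≤ 3` gives `σ(G) = ∅`. -/
theorem sigma_empty_of_odd {G : Type*} [Group G] (h : OddTwoLocalRankLE 3 G) : sigmaSet G = ∅ := by
  rw [Set.eq_empty_iff_forall_notMem]
  rintro p ⟨hp, hp2, S, M, ⟨hM, -⟩, A, hA, hAp, hAc⟩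
  have h1 := h p hp hp2 M hM.1 A hA hAp
  have h2 : p ^ 3 < p ^ 4 := Nat.pow_lt_pow_right hp.one_lt (by norm_num)
  omega

/-- Transport of `e(G) ≤ k` along an isomorphism. -/
theorem odd_congr {G H : Type*} [Group G] [Group H] {k : ℕ} (e : G ≃* H) (h : OddTwoLocalRankLE k H) :
    OddTwoLocalRankLE k G := by
  rintro p hp hp2 N ⟨T, hT, hT1, rfl⟩ A hA hAp
  -- move everything to `H`
  have hT' : IsPGroup 2 ↥(T.map e.toMonoidHom) := hT.map _
  have hT1' : T.map e.toMonoidHom ≠ ⊥ := fun h0 =>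
    hT1 ((Subgroup.map_eq_bot_iff_of_injective _ e.injective).1 h0)
  set A' : Subgroup G := A.map (normalizer (T : Set G)).subtype with hA'
  have hAn : A'.map e.toMonoidHom ≤ normalizer ((T.map e.toMonoidHom : Subgroup H) : Set H) := by
    rintro _ ⟨_, ⟨a, ha, rfl⟩, rfl⟩
    rw [mem_normalizer_iff]
    intro y
    constructor
    · rintro ⟨x, hx, rfl⟩
      refine ⟨(a : G) * x * (a : G)⁻¹, (mem_normalizer_iff.1 a.2 x).1 hx, by simp only [_root_.MulEquiv.toMonoidHom_eq_coe, _root_.MonoidHom.coe_coe, _root_.map_mul, _root_.map_inv, _root_.Subgroup.subtype_apply]⟩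
    · rintro ⟨x, hx, hxy⟩
      refine ⟨(a : G)⁻¹ * x * (a : G), ?_, ?_⟩
      · refine (mem_normalizer_iff.1 a.2 _).2 ?_
        have e1 : (a : G) * ((a : G)⁻¹ * x * a) * (a : G)⁻¹ = x := by group
        rw [e1]; exact hx
      · have e2 : e.toMonoidHom x = e (a : G) * y * (e (a : G))⁻¹ := hxy
        rw [map_mul, map_mul, e2, map_inv]
        change (e (a : G))⁻¹ * (e (a : G) * y * (e (a : G))⁻¹) * e (a : G) = y
        group
  have h1 := h p hp hp2 (normalizer ((T.map e.toMonoidHom : Subgroup H) : Set H)) ⟨_, hT', hT1', rfl⟩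
    ((A'.map e.toMonoidHom).subgroupOf _) ?_ ?_
  · rw [Nat.card_congr (Subgroup.subgroupOfEquivOfLe hAn).toEquiv, Subgroup.card_map_of_injective e.injective,
      hA', Subgroup.card_map_of_injective (Subgroup.subtype_injective _)] at h1
    exact h1
  · refine ⟨⟨fun x y => ?_⟩⟩
    obtain ⟨_, ⟨a, ha, rfl⟩, hxa⟩ := x.2
    obtain ⟨_, ⟨b, hb, rfl⟩, hyb⟩ := y.2
    have h3 := hA.is_comm.comm ⟨a, ha⟩ ⟨b, hb⟩
    have h4 : a * b = b * a := congrArg Subtype.val h3
    have h5 : e (a : G) = ((x.1 : ↥(normalizer ((T.map e.toMonoidHom : Subgroup H) : Set H))) : H) := hxa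
    have h6 : e (b : G) = ((y.1 : ↥(normalizer ((T.map e.toMonoidHom : Subgroup H) : Set H))) : H) := hyb
    apply Subtype.ext
    apply Subtype.ext
    change ((x.1 : ↥(normalizer ((T.map e.toMonoidHom : Subgroup H) : Set H))) : H) * y.1 = y.1 * x.1
    rw [← h5, ← h6, ← map_mul, ← map_mul]
    have h7 : (a : G) * (b : G) = (b : G) * (a : G) := congrArg Subtype.val h4
    rw [h7]
  · intro x hx
    obtain ⟨_, ⟨a, ha, rfl⟩, hxa⟩ := hx
    have h5 : e (a : G) = (x : H) := hxa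
    apply Subtype.ext
    change (x : H) ^ p = 1
    rw [← h5, ← map_pow]
    have h6 : (a : G) ^ p = 1 := congrArg Subtype.val (hAp a ha)
    rw [h6, map_one]

end Cfsg.Agent.SigZero.ATwelve

end

-- merged: Cfsg.Agent.SigZero.RgdCount
section

/-!
The order of a parabolic subgroup of a root group datum with trivial torus (groups over the field of two elements).

* `card_PJ` : `|P_J| = |U| * ∑ w ∈ W_J, |Sup X (NW w)|`.
-/

set_option autoImplicit false
set_option linter.unusedSectionVars false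

namespace Cfsg.Agent.SigZero.RgdCount

open CoxeterSystem Cfsg.Agent.ChevalleyStructure.CoxeterGeom Cfsg.Agent.Tits.Roots Cfsg.Agent.Tits.Core
  Cfsg.Agent.Tits.RootComb Cfsg.Agent.Tits.Exchange Cfsg.Agent.Nodes.Reps Cfsg.Agent.Nodes.BNOf
  Cfsg.Agent.Nodes.StabComb Cfsg.Agent.Nodes.Bruhat Cfsg.Agent.Nodes.OppDec Cfsg.Agent.Nodes.LeviDec
  Cfsg.Agent.Nodes.NormalForm Cfsg.Agent.Nodes.Comb

variable {I W Y : Type*} [Fintype I] [DecidableEq I] [Group W] [Group Y] {M : CoxeterMatrix I}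
  {cs : CoxeterSystem M W} {A : I → I → ℤ} {h : IsCartan M A} {p : ℕ} {T : Subgroup Y} {n : I → Y}
  {X : (I → ℤ) → Subgroup Y} (R : RGD cs h p T n X)

theorem closed_NW (w : W) : Cfsg.Agent.Nodes.Unique.Closed cs h (NW cs h w) := by
  intro x hx y hy z hz
  refine ⟨hz.1, RGD.nonneg_of_btwn hx.2.1 hy.2.1 hz, ?_⟩
  have h1 : (0 : I → ℤ) ≤ rep cs h w (-z) := by
    refine RGD.nonneg_of_btwn (cs := cs) (h := h) (x := rep cs h w (-x)) (y := rep cs h w (-y))
      ?_ ?_ ((btwn_neg hz).act w)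
    · rw [map_neg]; exact neg_nonneg.2 hx.2.2
    · rw [map_neg]; exact neg_nonneg.2 hy.2.2
  rw [map_neg] at h1
  exact neg_nonneg.1 h1

include R

/-- **The order of a parabolic subgroup** when the torus is trivial. -/
theorem card_PJ [Finite W] [Finite Y] (hT : T = ⊥) (J : Set I) [Fintype ↥(WJ cs J)] :
    Nat.card ↥(PJ cs h T X J) = Nat.card ↥(RGD.Sup X (RGD.Pos cs h)) *
      ∑ w : ↥(WJ cs J), Nat.card ↥(RGD.Sup X (NW cs h (w : W))) := by
  classical
  have hex : ∀ w : W, ∃ k, Rp cs R.nsys w k := fun w => exists_rp cs R.nsys w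
  choose k hk using hex
  have huniq : ∀ (w : W) (g : Y), Rp cs R.nsys w g → g = k w := by
    intro w g hg
    have h1 := (hg.mul (hk w).inv)
    rw [mul_inv_cancel] at h1
    have h2 := h1.mem_of_one
    rw [hT, Subgroup.mem_bot] at h2
    exact mul_inv_eq_one.1 h2
  have hNU : ∀ w : W, RGD.Sup X (NW cs h w) ≤ RGD.Sup X (RGD.Pos cs h) := fun w =>
    RGD.Sup_mono fun x hx => ⟨hx.1, hx.2.1⟩
  let f : (Σ w : ↥(WJ cs J), ↥(RGD.Sup X (RGD.Pos cs h)) × ↥(RGD.Sup X (NW cs h (w : W)))) →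
      ↥(PJ cs h T X J) := fun x => ⟨x.2.1 * k x.1 * x.2.2, by
    refine mul_mem (mul_mem (B_le_PJ (RGD.U_le_B x.2.1.2)) (LJ_le_PJ (rp_mem_LJ R x.1.2 (hk _)))) (B_le_PJ
      (RGD.U_le_B (hNU _ x.2.2.2)))⟩
  have hf : Function.Bijective f := by
    constructor
    · rintro ⟨⟨w, hw⟩, ⟨u, hu⟩, ⟨v, hv⟩⟩ ⟨⟨w', hw'⟩, ⟨u', hu'⟩, ⟨v', hv'⟩⟩ e
      have e1 : u * k w * v = u' * k w' * v' := congrArg Subtype.val e
      have c1 : Cell R.nsys cs h X w (u * k w * v) :=
        ⟨u, RGD.U_le_B hu, k w, hk w, v, RGD.U_le_B (hNU w hv), rfl⟩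
      have c2 : Cell R.nsys cs h X w' (u' * k w' * v') :=
        ⟨u', RGD.U_le_B hu', k w', hk w', v', RGD.U_le_B (hNU w' hv'), rfl⟩
      have hww : w = w' := Cell.unique R c1 (by rw [e1]; exact c2)
      subst hww
      obtain ⟨rfl, -, rfl⟩ := normal_form_unique R hu hu' (hk w) (hk w) hv hv' e1
      rfl
    · rintro ⟨g, hg⟩
      obtain ⟨w, hw, hc⟩ := (mem_PJ_iff_cell R).1 hg
      obtain ⟨u, hu, k', hk', v, hv, rfl⟩ := exists_normal_form R hc
      refine ⟨⟨⟨w, hw⟩, ⟨u, hu⟩, ⟨v, hv⟩⟩, Subtype.ext ?_⟩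
      show u * k w * v = u * k' * v
      rw [huniq w k' hk']
  rw [← Nat.card_congr (Equiv.ofBijective f hf), Nat.card_sigma]
  simp only [Nat.card_prod]
  rw [Finset.mul_sum]

theorem card_Sup_NW [Finite W] (hX : ∀ x, IsRoot cs h x → Nat.card ↥(X x) = 2) (w : W) :
    Nat.card ↥(RGD.Sup X (NW cs h w)) = 2 ^ (NW cs h w).ncard := by
  classical
  have hfin : (NW cs h w).Finite := (RGD.finite_roots (cs := cs) (h := h)).subset fun _ hx => hx.1
  have h1 := Cfsg.Agent.Nodes.CardSup.card_sup R (s := hfin.toFinset) (by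
    rw [Set.Finite.coe_toFinset]
    exact fun x hx => ⟨hx.1, hx.2.1⟩) (by
    rw [Set.Finite.coe_toFinset]
    exact closed_NW w)
  rw [Set.Finite.coe_toFinset] at h1
  rw [h1, Finset.prod_congr rfl (fun x hx => hX x ((Set.Finite.mem_toFinset hfin).1 hx).1), Finset.prod_const,
    Set.ncard_eq_toFinset_card _ hfin]

/-- over the field of two elements: `u n` has order three in the group of a simple root -/
theorem exists_three [Finite W] (hT : T = ⊥) (i : I) (hX : Nat.card ↥(X (sr i)) = 2) :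
    ∃ d ∈ X (sr i) ⊔ X (-sr i), d ^ 3 = 1 ∧ ∃ u ∈ X (sr i), d * u ≠ u * d := by
  obtain ⟨u, hu, hu1⟩ := exists_ne_one R i
  have hall : ∀ a ∈ X (sr i), a = 1 ∨ a = u := by
    intro a ha
    have h1 := (Nat.card_eq_two_iff' (1 : ↥(X (sr i)))).1 hX
    obtain ⟨y, hy, hy2⟩ := h1
    by_cases ha1 : a = 1
    · exact Or.inl ha1
    · right
      have e1 := hy2 ⟨a, ha⟩ (fun h0 => ha1 (congrArg Subtype.val h0))
      have e2 := hy2 ⟨u, hu⟩ (fun h0 => hu1 (congrArg Subtype.val h0))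
      exact congrArg Subtype.val (e1.trans e2.symm)
  have huu : u * u = 1 := by
    rcases hall (u * u) (mul_mem hu hu) with h1 | h1
    · exact h1
    · exact absurd (mul_eq_left.1 h1) hu1
  have hnn : n i * n i = 1 := by
    have := R.sq_mem_T i
    rwa [hT, Subgroup.mem_bot] at this
  set v := n i * u * (n i)⁻¹ with hv
  have hvX : v ∈ X (-sr i) := by
    have := R.conj_mem (rp_simple cs R.nsys i) (isRoot_sr cs h i) hu
    rwa [rep_simple_sr] at this
  have hv1 : v ≠ 1 := fun h3 => hu1 (mul_eq_left.1 (mul_inv_eq_one.1 h3))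
  have hni : (n i)⁻¹ = n i := inv_eq_of_mul_eq_one_left hnn
  have hdis : ∀ a ∈ X (sr i), a ∈ X (-sr i) → a = 1 := by
    intro a ha ha'
    have h1 : a ∈ X (-sr i) ⊓ RGD.B cs h T X := ⟨ha', RGD.X_le_B (isRoot_sr cs h i) (sr_nonneg i) ha⟩
    rwa [Cfsg.Agent.Nodes.Unique.neg_inf_B R i, Subgroup.mem_bot] at h1
  have hnX : n i ∉ X (sr i) := by
    intro h1
    refine hu1 ?_
    have h2 : v ∈ X (sr i) := mul_mem (mul_mem h1 hu) (inv_mem h1)
    have h3 := hdis v h2 hvX
    exact absurd h3 hv1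
  obtain ⟨a, ha, t, ht, b, hb, e⟩ := R.rk1 i v hvX hv1
  rw [hT, Subgroup.mem_bot] at ht
  subst ht
  rw [mul_one] at e
  have e0 : n i * u * n i = a * n i * b := by rw [← e, hv, hni]
  have ha' : a = u := by
    rcases hall a ha with rfl | h1
    · exfalso
      rw [one_mul, mul_assoc] at e0
      have h2 : n i = u⁻¹ * b := by
        rw [← mul_left_cancel e0, inv_mul_cancel_left]
      exact hnX (by rw [h2]; exact mul_mem (inv_mem hu) hb)
    · exact h1
  have hb' : b = u := by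
    rcases hall b hb with rfl | h1
    · exfalso
      rw [mul_one] at e0
      have h2 : n i = a * u⁻¹ := by
        rw [← mul_right_cancel e0, mul_inv_cancel_right]
      exact hnX (by rw [h2]; exact mul_mem ha (inv_mem hu))
    · exact h1
  rw [ha', hb'] at e e0
  clear ha' hb' ha hb
  clear a b
  have hnmem : n i ∈ X (sr i) ⊔ X (-sr i) := by
    have h2 : n i = u⁻¹ * v * u⁻¹ := by
      rw [e]; group
    rw [h2]
    exact mul_mem (mul_mem (inv_mem (Subgroup.mem_sup_left hu)) (Subgroup.mem_sup_right hvX))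
      (inv_mem (Subgroup.mem_sup_left hu))
  refine ⟨u * n i, mul_mem (Subgroup.mem_sup_left hu) hnmem, ?_, u, hu, ?_⟩
  · calc (u * n i) ^ 3 = u * (n i * u * n i) * u * n i := by
          rw [pow_succ, pow_two]; group
      _ = u * (u * n i * u) * u * n i := by rw [e0]
      _ = (u * u) * n i * (u * u) * n i := by group
      _ = 1 := by rw [huu, one_mul, mul_one, hnn]
  · intro h1
    have h2 : n i * u = u * n i := by
      apply mul_left_cancel (a := u)
      rw [← mul_assoc, h1]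
    have h3 : v = u := by rw [hv, h2, mul_inv_cancel_right]
    exact hu1 (hdis u hu (by rw [← h3]; exact hvX))

/-- **an element of order nine** in a parabolic subgroup over the field of two elements -/
theorem exists_nine [Finite W] (hT : T = ⊥) (J : Set I) (i : I) (hi : i ∈ J) (hX : Nat.card ↥(X (sr i)) = 2)
    {w : W} (hw : w ∈ WJ cs J) (hw3 : w ^ 3 = 1) {r s : I → ℤ} (h1 : rep cs h w (sr i) = r)
    (h2 : rep cs h w r = s)
    (hc1 : ∀ x ∈ ({sr i, -sr i} : Set (I → ℤ)), ∀ y ∈ ({r, -r} : Set (I → ℤ)), ∀ a ∈ X x, ∀ b ∈ X y, a * b = b * a)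
    (hc2 : ∀ x ∈ ({sr i, -sr i} : Set (I → ℤ)), ∀ y ∈ ({s, -s} : Set (I → ℤ)), ∀ a ∈ X x, ∀ b ∈ X y, a * b = b * a)
    (hc3 : ∀ x ∈ ({r, -r} : Set (I → ℤ)), ∀ y ∈ ({s, -s} : Set (I → ℤ)), ∀ a ∈ X x, ∀ b ∈ X y, a * b = b * a) :
    ∃ y ∈ PJ cs h T X J, y ^ 9 = 1 ∧ y ^ 3 ≠ 1 := by
  obtain ⟨d, hd, hd3, u, hu, hdu⟩ := exists_three R hT i hX
  obtain ⟨k, hk⟩ := exists_rp cs R.nsys w
  have hk3 : k ^ 3 = 1 := by
    have h4 : Rp cs R.nsys (w ^ 3) (k ^ 3) := by
      rw [pow_succ, pow_two, pow_succ, pow_two]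
      exact (hk.mul hk).mul hk
    rw [hw3] at h4
    have := h4.mem_of_one
    rwa [hT, Subgroup.mem_bot] at this
  have hri := isRoot_sr cs h i
  have hr : IsRoot cs h r := h1 ▸ hri.act w
  have hcomm : ∀ {x y : I → ℤ}, (∀ x' ∈ ({x, -x} : Set (I → ℤ)), ∀ y' ∈ ({y, -y} : Set (I → ℤ)), ∀ a ∈ X x',
      ∀ b ∈ X y', a * b = b * a) → ∀ a ∈ X x ⊔ X (-x), ∀ b ∈ X y ⊔ X (-y), a * b = b * a := by
    intro x y hxy
    have h5 : ∀ a ∈ X x ⊔ X (-x), ∀ y' ∈ ({y, -y} : Set (I → ℤ)), ∀ b ∈ X y', a * b = b * a := by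
      intro a ha y' hy' b hb
      have h6 : X x ⊔ X (-x) ≤ Subgroup.centralizer {b} := by
        rw [sup_le_iff]
        constructor
        · intro c hc
          rw [Subgroup.mem_centralizer_singleton_iff]
          exact hxy x (by simp) y' hy' c hc b hb
        · intro c hc
          rw [Subgroup.mem_centralizer_singleton_iff]
          exact hxy (-x) (by simp) y' hy' c hc b hb
      exact Subgroup.mem_centralizer_singleton_iff.1 (h6 ha)
    intro a ha b hb
    have h6 : X y ⊔ X (-y) ≤ Subgroup.centralizer {a} := by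
      rw [sup_le_iff]
      constructor
      · intro c hc
        rw [Subgroup.mem_centralizer_singleton_iff]
        exact (h5 a ha y (by simp) c hc).symm
      · intro c hc
        rw [Subgroup.mem_centralizer_singleton_iff]
        exact (h5 a ha (-y) (by simp) c hc).symm
    exact (Subgroup.mem_centralizer_singleton_iff.1 (h6 hb)).symm
  have hmap : ∀ {x y : I → ℤ}, IsRoot cs h x → rep cs h w x = y → ∀ a ∈ X x ⊔ X (-x),
      k * a * k⁻¹ ∈ X y ⊔ X (-y) := by
    intro x y hx hxy a ha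
    have h6 : cj k (X x ⊔ X (-x)) = X y ⊔ X (-y) := by
      rw [cj_sup, R.conj_rp hk hx, R.conj_rp hk hx.neg, map_neg, hxy]
    rw [← h6]
    exact conj_mem_cj.2 ha
  set d2 := k * d * k⁻¹ with hd2
  set d3 := k * d2 * k⁻¹ with hd3'
  have m2 : d2 ∈ X r ⊔ X (-r) := hmap hri h1 d hd
  have m3 : d3 ∈ X s ⊔ X (-s) := hmap hr h2 d2 m2
  have c12 : d * d2 = d2 * d := hcomm hc1 d hd d2 m2
  have c13 : d * d3 = d3 * d := hcomm hc2 d hd d3 m3
  have c23 : d2 * d3 = d3 * d2 := hcomm hc3 d2 m2 d3 m3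
  have e3 : (d * k) ^ 3 = d * d2 * d3 := by
    have e4 : (d * k) ^ 3 = d * d2 * d3 * k ^ 3 := by
      rw [hd3', hd2, pow_succ, pow_two, pow_succ, pow_two]; group
    rw [e4, hk3, mul_one]
  have hJ : k ∈ PJ cs h T X J := LJ_le_PJ (rp_mem_LJ R hw hk)
  have hmemJ : sr i ∈ RootsJ cs h J := ⟨hri, fun j hj => sr_ne (fun h0 => hj (by rw [h0]; exact hi))⟩
  have hdJ : d ∈ PJ cs h T X J := by
    have h7 : X (sr i) ⊔ X (-sr i) ≤ PJ cs h T X J := by
      rw [sup_le_iff]
      exact ⟨le_trans (X_le_LJ hmemJ) LJ_le_PJ, le_trans (X_le_LJ (RootsJ.neg hmemJ)) LJ_le_PJ⟩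
    exact h7 hd
  refine ⟨d * k, mul_mem hdJ hJ, ?_, ?_⟩
  · have h9 : (d * k) ^ 9 = ((d * k) ^ 3) ^ 3 := by rw [← pow_mul]
    have hd23 : d2 ^ 3 = 1 := by rw [hd2, conj_pow, hd3, mul_one, mul_inv_cancel]
    have hd33 : d3 ^ 3 = 1 := by rw [hd3', conj_pow, hd23, mul_one, mul_inv_cancel]
    have c1 : Commute (d * d2) d3 := by
      show d * d2 * d3 = d3 * (d * d2)
      rw [mul_assoc, c23, ← mul_assoc, c13, mul_assoc]
    have c2 : Commute d d2 := c12
    rw [h9, e3, c1.mul_pow, c2.mul_pow, hd3, hd23, hd33, one_mul, one_mul]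
  · intro h0
    rw [e3, mul_assoc] at h0
    have h8 : d = (d2 * d3)⁻¹ := eq_inv_of_mul_eq_one_left h0
    have hu' : u ∈ X (sr i) ⊔ X (-sr i) := Subgroup.mem_sup_left hu
    have c2 : d2 * u = u * d2 := (hcomm hc1 u hu' d2 m2).symm
    have c3 : d3 * u = u * d3 := (hcomm hc2 u hu' d3 m3).symm
    apply hdu
    have c4 : Commute (d2 * d3) u := (show Commute d2 u from c2).mul_left (show Commute d3 u from c3)
    rw [h8]
    exact c4.inv_left.eq

end Cfsg.Agent.SigZero.RgdCount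

end

-- merged: Cfsg.Agent.SigZero.FFourTwo
section

/-!
# `σ(F₄(2)) = ∅`

* `odd_rank` : every 2-local subgroup of `F₄(2)` has `p`-rank at most 3 for all odd primes `p`.
* `sigma_empty` : `sigmaSet G = ∅` for `G ≅ F₄(2)`.

Proof. By Borel–Tits a 2-local subgroup lies in a maximal parabolic `P_J`, `|J| = 3`. Its order is `2^a * 63` for
`J = {0,1,3}, {0,2,3}` and `2^a * 2835` (`2835 = 3^4 * 5 * 7`) for `J = {0,1,2}, {1,2,3}`, where it has an element of order 9,
so that a Sylow 3-subgroup is not elementary abelian.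
-/

set_option autoImplicit false
set_option linter.unusedSectionVars false

namespace Cfsg.Agent.SigZero.FFourTwo

open CoxeterSystem Cfsg.Agent.ChevalleyStructure.CoxeterGeom Cfsg.Agent.Tits.Roots Cfsg.Agent.Tits.Core
  Cfsg.Agent.Tits.RootComb Cfsg.Agent.Nodes.Comb Cfsg.Agent.Nodes.Reps Cfsg.Agent.Nodes.BNOf
  Cfsg.Agent.Nodes.StabComb Cfsg.Agent.Nodes.Bruhat Cfsg.Agent.Nodes.LeviDec Cfsg.Agent.Nodes.NormalForm
open Cfsg.Lie Cfsg.Agent.ChevalleyStructure Cfsg.Agent.ChevalleyStructure.Elts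
  Cfsg.Agent.ChevalleyStructure.RootVec Cfsg.Agent.ChevalleyStructure.RootVecTab
  Cfsg.Agent.ChevalleyStructure.NPerm Cfsg.Agent.ChevalleyStructure.CoxeterGeomTypes
open Cfsg.Agent.Nodes Cfsg.Agent.Nodes.RGDChev
open scoped commutatorElement

universe u

/-! ### the tables -/

/-- the reflections on the 48 root indices -/
def tb : List (List ℕ) :=
  [[0, 1, 2, 7, 15, 16, 17, 3, 8, 9, 10, 18, 19, 20, 33, 4, 5, 6, 11, 12, 13, 21, 22, 23, 24, 25, 26, 34, 35,
    36, 41, 42, 43, 14, 27, 28, 29, 37, 38, 39, 44, 30, 31, 32, 40, 45, 46, 47],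
    [0, 1, 4, 3, 2, 5, 6, 8, 7, 11, 12, 9, 10, 14, 13, 15, 21, 22, 18, 19, 27, 16, 17, 23, 24, 30, 31, 20, 28,
    29, 25, 26, 32, 34, 33, 37, 38, 35, 36, 40, 39, 41, 42, 45, 44, 43, 46, 47],
    [0, 2, 1, 3, 5, 4, 6, 7, 9, 8, 10, 11, 13, 12, 14, 16, 15, 17, 18, 20, 19, 23, 25, 21, 26, 22, 24, 28, 27,
    29, 30, 32, 31, 33, 35, 34, 36, 37, 39, 38, 40, 41, 43, 42, 44, 46, 45, 47],
    [1, 0, 2, 3, 4, 6, 5, 7, 8, 10, 9, 12, 11, 13, 14, 15, 17, 16, 19, 18, 20, 22, 21, 24, 23, 26, 25, 27, 29,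
    28, 31, 30, 32, 33, 34, 36, 35, 38, 37, 39, 40, 42, 41, 43, 44, 45, 47, 46]]

def ra (i r : ℕ) : ℕ := (tb.getD i []).getD r 0

theorem ra_spec : ∀ i < 4, ∀ r < 48, chevF4.reflectRoot i r = ra i r ∧ ra i r < 48 := by (delta Cfsg.Lie.ChevalleyDatum.chainRoot Cfsg.Lie.ChevalleyDatum.reflectRoot; rewrite [Cfsg.Agent.ChevFast.F4.cartan, Cfsg.Agent.ChevFast.F4.chainEntry, Cfsg.Agent.ChevFast.F4.neg]; decide +kernel)

/-- the action of a word -/
def act (ω : List (Fin 4)) (r : ℕ) : ℕ := ω.foldr (fun i r => ra i r) r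

def key (ω : List (Fin 4)) : List ℕ := [act ω 33, act ω 27, act ω 25, act ω 24]

def inv (ω : List (Fin 4)) : ℕ := ((List.range' 24 24).filter fun r => decide (act ω r < 24)).length

def chk (J : List (Fin 4)) (L : List (List (Fin 4))) : Bool :=
  decide (L.map key).Nodup && (L.map key).contains (key []) && (L.all fun ω => ω.all fun j => J.contains j) &&
  L.all fun ω => J.all fun j => (L.map key).contains (key (j :: ω))

def LC : List (List (Fin 4)) :=
  [[], [0], [1], [2], [1, 0], [2, 0], [0, 1], [2, 1], [1, 2], [0, 1, 0], [2, 1, 0], [1, 2, 0], [2, 0, 1],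
   [1, 2, 1], [0, 1, 2], [2, 1, 2], [2, 0, 1, 0], [1, 2, 1, 0], [0, 1, 2, 0], [2, 1, 2, 0], [1, 2, 0, 1],
   [0, 1, 2, 1], [2, 1, 2, 1], [2, 0, 1, 2], [1, 2, 0, 1, 0], [0, 1, 2, 1, 0], [2, 1, 2, 1, 0], [2, 0, 1, 2, 0],
   [0, 1, 2, 0, 1], [2, 1, 2, 0, 1], [2, 0, 1, 2, 1], [1, 2, 0, 1, 2], [0, 1, 2, 0, 1, 0], [2, 1, 2, 0, 1, 0],
   [2, 0, 1, 2, 1, 0], [1, 2, 0, 1, 2, 0], [2, 0, 1, 2, 0, 1], [1, 2, 0, 1, 2, 1], [2, 1, 2, 0, 1, 2],
   [2, 0, 1, 2, 0, 1, 0], [1, 2, 0, 1, 2, 1, 0], [2, 1, 2, 0, 1, 2, 0], [1, 2, 0, 1, 2, 0, 1],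
   [2, 1, 2, 0, 1, 2, 1], [1, 2, 0, 1, 2, 0, 1, 0], [2, 1, 2, 0, 1, 2, 1, 0], [2, 1, 2, 0, 1, 2, 0, 1],
   [2, 1, 2, 0, 1, 2, 0, 1, 0]]

theorem chkLC : chk [0, 1, 2] LC = true := by decide +kernel

theorem sumLC : (LC.map fun ω => 2 ^ inv ω).sum = 2835 := by decide +kernel

def LB : List (List (Fin 4)) :=
  [[], [1], [2], [3], [2, 1], [3, 1], [1, 2], [3, 2], [2, 3], [1, 2, 1], [3, 2, 1], [2, 3, 1], [2, 1, 2],
   [3, 1, 2], [2, 3, 2], [1, 2, 3], [2, 1, 2, 1], [3, 1, 2, 1], [2, 3, 2, 1], [1, 2, 3, 1], [3, 2, 1, 2],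
   [2, 3, 1, 2], [1, 2, 3, 2], [2, 1, 2, 3], [3, 2, 1, 2, 1], [2, 3, 1, 2, 1], [1, 2, 3, 2, 1], [2, 1, 2, 3, 1],
   [2, 3, 2, 1, 2], [1, 2, 3, 1, 2], [2, 1, 2, 3, 2], [3, 2, 1, 2, 3], [2, 3, 2, 1, 2, 1], [1, 2, 3, 1, 2, 1],
   [2, 1, 2, 3, 2, 1], [3, 2, 1, 2, 3, 1], [1, 2, 3, 2, 1, 2], [2, 1, 2, 3, 1, 2], [3, 2, 1, 2, 3, 2],
   [1, 2, 3, 2, 1, 2, 1], [2, 1, 2, 3, 1, 2, 1], [3, 2, 1, 2, 3, 2, 1], [2, 1, 2, 3, 2, 1, 2],
   [3, 2, 1, 2, 3, 1, 2], [2, 1, 2, 3, 2, 1, 2, 1], [3, 2, 1, 2, 3, 1, 2, 1], [3, 2, 1, 2, 3, 2, 1, 2],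
   [3, 2, 1, 2, 3, 2, 1, 2, 1]]

theorem chkLB : chk [1, 2, 3] LB = true := by decide +kernel

theorem sumLB : (LB.map fun ω => 2 ^ inv ω).sum = 2835 := by decide +kernel

def LD : List (List (Fin 4)) :=
  [[], [0], [1], [3], [1, 0], [3, 0], [0, 1], [3, 1], [0, 1, 0], [3, 1, 0], [3, 0, 1], [3, 0, 1, 0]]

theorem chkLD : chk [0, 1, 3] LD = true := by decide +kernel

theorem sumLD : (LD.map fun ω => 2 ^ inv ω).sum = 63 := by decide +kernel

def LE : List (List (Fin 4)) :=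
  [[], [0], [2], [3], [2, 0], [3, 0], [3, 2], [2, 3], [3, 2, 0], [2, 3, 0], [2, 3, 2], [2, 3, 2, 0]]

theorem chkLE : chk [0, 2, 3] LE = true := by decide +kernel

theorem sumLE : (LE.map fun ω => 2 ^ inv ω).sum = 63 := by decide +kernel

/-! ### words -/

theorem isType : IsType chevF4 4 CoxeterMatrix.F₄ := by simp [IsType, typeList]

theorem nroots_eq : chevF4.nroots = 48 := rfl

section Words

variable {W : Type*} [Group W] (cs : CoxeterSystem CoxeterMatrix.F₄ W)

theorem rep_word (ω : List (Fin 4)) {r : ℕ} (hr : r < 48) :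
    rep cs isType.isCartan (cs.wordProd ω) (vec chevF4 4 r) = vec chevF4 4 (act ω r) ∧ act ω r < 48 := by
  induction ω with
  | nil => exact ⟨by rw [wordProd_nil, map_one, Module.End.one_apply]; rfl, hr⟩
  | cons i ω ih =>
    have h1 := ra_spec i i.2 _ ih.2
    refine ⟨?_, h1.2⟩
    rw [wordProd_cons, rep_mul_apply, ih.1, rep_vec isType cs i (r := act ω r) ih.2, h1.1]
    rfl

theorem sr_eq : ∀ i : Fin 4, (sr i : Fin 4 → ℤ) = vec chevF4 4 (([33, 27, 25, 24] : List ℕ).getD i 0) := by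
  intro i
  have h1 := vec_simple isType i
  rw [← h1]
  congr 1
  fin_cases i <;> rfl

theorem eq_of_key {ω ω' : List (Fin 4)} (e : key ω = key ω') : cs.wordProd ω = cs.wordProd ω' := by
  have h2 : (cs.wordProd ω)⁻¹ * cs.wordProd ω' = 1 := by
    refine eq_one_of_fix cs isType.isCartan _ fun i => ?_
    have h3 : rep cs isType.isCartan (cs.wordProd ω') (sr i) = rep cs isType.isCartan (cs.wordProd ω) (sr i) := by
      have h4 : ([33, 27, 25, 24] : List ℕ).getD i 0 < 48 := by fin_cases i <;> decide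
      rw [sr_eq, (rep_word cs ω' h4).1, (rep_word cs ω h4).1]
      congr 1
      simp only [key, List.cons.injEq, and_true] at e
      obtain ⟨e0, e1, e2, e3⟩ := e
      fin_cases i
      · exact e0.symm
      · exact e1.symm
      · exact e2.symm
      · exact e3.symm
    show rep cs isType.isCartan ((cs.wordProd ω)⁻¹ * cs.wordProd ω') (sr i) = sr i
    rw [rep_mul_apply, h3, rep_inv_apply]
  exact inv_mul_eq_one.1 h2

theorem key_eq {ω ω' : List (Fin 4)} (e : cs.wordProd ω = cs.wordProd ω') : key ω = key ω' := by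
  have h1 : ∀ r < 48, act ω r = act ω' r := by
    intro r hr
    have h2 := rep_word cs ω hr
    have h3 := rep_word cs ω' hr
    refine vec_inj isType (r := act ω r) (s := act ω' r) h2.2 h3.2 ?_
    rw [← h2.1, ← h3.1, e]
  unfold key
  rw [h1 33 (by norm_num), h1 27 (by norm_num), h1 25 (by norm_num), h1 24 (by norm_num)]

/-- the elements of `W_J` -/
theorem mem_WJ_iff {J : List (Fin 4)} {L : List (List (Fin 4))} (hc : chk J L = true) (w : W) :
    w ∈ WJ cs {i | i ∈ J} ↔ ∃ ω ∈ L, cs.wordProd ω = w := by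
  unfold chk at hc
  simp only [Bool.and_eq_true, decide_eq_true_eq, List.contains_iff_mem, List.all_eq_true] at hc
  obtain ⟨⟨⟨-, h1⟩, h2⟩, h3⟩ := hc
  constructor
  · intro hw
    obtain ⟨ω, hω, rfl⟩ := Cfsg.Agent.Tits.Exchange.exists_word_of_mem_WJ cs hw
    clear hw
    induction ω with
    | nil =>
      rw [List.mem_map] at h1
      obtain ⟨ω, hωL, e⟩ := h1
      exact ⟨ω, hωL, eq_of_key cs e⟩
    | cons j ω ih =>
      obtain ⟨ω', hω', e⟩ := ih fun j hj => hω j (by simp [hj])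
      have h4 := h3 ω' hω' j (hω j (by simp))
      rw [List.mem_map] at h4
      obtain ⟨ω'', hω'', e''⟩ := h4
      refine ⟨ω'', hω'', ?_⟩
      rw [eq_of_key cs e'', wordProd_cons, wordProd_cons, e]
  · rintro ⟨ω, hω, rfl⟩
    have h4 := h2 ω hω
    clear hω
    induction ω with
    | nil => rw [wordProd_nil]; exact one_mem _
    | cons j ω ih =>
      rw [wordProd_cons]
      exact mul_mem (Cfsg.Agent.Tits.Exchange.simple_mem_WJ cs (h4 j (by simp))) (ih fun j hj => h4 j (by simp [hj]))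

/-- sums over `W_J` -/
theorem sum_WJ {J : List (Fin 4)} {L : List (List (Fin 4))} (hc : chk J L = true) [Fintype ↥(WJ cs {i | i ∈ J})]
    (f : W → ℕ) : ∑ w : ↥(WJ cs {i | i ∈ J}), f w = (L.map fun ω => f (cs.wordProd ω)).sum := by
  classical
  have hnd : (L.map cs.wordProd).Nodup := by
    have h1 : (L.map key).Nodup := by
      unfold chk at hc
      simp only [Bool.and_eq_true, decide_eq_true_eq] at hc
      exact hc.1.1.1
    have h2 : (L.map key) = (L.map fun ω => key ω) := rfl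
    refine List.Nodup.map_on ?_ h1.of_map
    intro ω hω ω' hω' e
    exact List.inj_on_of_nodup_map h1 hω hω' (key_eq cs e)
  have h1 : ((L.map cs.wordProd).toFinset).sum f = (L.map fun ω => f (cs.wordProd ω)).sum := by
    rw [List.sum_toFinset f hnd, List.map_map]
    rfl
  rw [← h1]
  refine Finset.sum_bij' (fun w _ => (w : W)) (fun w hw => ⟨w, ?_⟩) ?_ ?_ ?_ ?_ ?_
  · rw [List.mem_toFinset, List.mem_map] at hw
    exact (mem_WJ_iff cs hc w).2 hw
  · intro w _
    rw [List.mem_toFinset, List.mem_map]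
    exact (mem_WJ_iff cs hc w).1 w.2
  · intro w _; exact Finset.mem_univ _
  · intro w _; rfl
  · intro w _; rfl
  · intro w _; rfl

theorem nonneg_iff {r : ℕ} (hr : r < 48) : (0 : Fin 4 → ℤ) ≤ vec chevF4 4 r ↔ 24 ≤ r := by
  have h1 := isPosRoot_iff isType.checked r
  have h2 := isPosRoot_iff_index isType.checked (r := r) hr
  have h3 := RootVec.neg_add isType.checked (r := r) hr
  rw [nroots_eq] at h3
  constructor
  · intro h0
    have h4 : chevF4.IsPosRoot r := h1.2 ⟨hr, fun i hi => h0 ⟨i, hi⟩⟩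
    have := h2.1 h4
    omega
  · intro h0
    have h4 : chevF4.IsPosRoot r := h2.2 (by omega)
    intro i
    exact (h1.1 h4).2 i i.2

theorem nonpos_iff {r : ℕ} (hr : r < 48) : vec chevF4 4 r ≤ (0 : Fin 4 → ℤ) ↔ r < 24 := by
  have h1 := isNegRoot_iff isType.checked r
  have h2 := isPosRoot_neg_iff isType.checked (r := r) hr
  have hn := RootVec.neg_lt isType.checked (r := r) hr
  have h5 := isPosRoot_iff_index isType.checked (r := chevF4.neg r) hn
  have h3 := RootVec.neg_add isType.checked (r := r) hr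
  rw [RootVec.neg_neg isType.checked (r := r) hr] at h5
  rw [nroots_eq] at h3
  constructor
  · intro h0
    have h4 : chevF4.IsNegRoot r := h1.2 ⟨hr, fun i hi => h0 ⟨i, hi⟩⟩
    have := h5.1 (h2.2 h4)
    omega
  · intro h0
    have h4 : chevF4.IsNegRoot r := h2.1 (h5.2 (by omega))
    intro i
    exact (h1.1 h4).2 i i.2

/-- the number of inversions -/
theorem ncard_NW (ω : List (Fin 4)) : (NW cs isType.isCartan (cs.wordProd ω)).ncard = inv ω := by
  classical
  have h1 : NW cs isType.isCartan (cs.wordProd ω) =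
      ((((List.range' 24 24).filter fun r => decide (act ω r < 24)).toFinset.image (vec chevF4 4) :
        Finset (Fin 4 → ℤ)) : Set (Fin 4 → ℤ)) := by
    ext x
    rw [Finset.coe_image, Set.mem_image]
    constructor
    · rintro ⟨hx, h0, hneg⟩
      obtain ⟨r, hr, rfl⟩ := (isRoot_iff isType cs x).1 hx
      rw [nroots_eq] at hr
      rw [(rep_word cs ω hr).1, nonpos_iff (rep_word cs ω hr).2] at hneg
      rw [nonneg_iff hr] at h0
      refine ⟨r, ?_, rfl⟩
      rw [Finset.mem_coe, List.mem_toFinset, List.mem_filter, decide_eq_true_eq]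
      refine ⟨?_, hneg⟩
      rw [List.mem_range'_1]
      omega
    · rintro ⟨r, hr, rfl⟩
      rw [Finset.mem_coe, List.mem_toFinset, List.mem_filter, decide_eq_true_eq, List.mem_range'_1] at hr
      have hr' : r < 48 := by omega
      refine ⟨(isRoot_iff isType cs _).2 ⟨r, hr', rfl⟩, (nonneg_iff hr').2 hr.1.1, ?_⟩
      rw [(rep_word cs ω hr').1, nonpos_iff (rep_word cs ω hr').2]
      exact hr.2
  rw [h1, Set.ncard_coe_finset, Finset.card_image_of_injOn, List.toFinset_card_of_nodup]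
  · rfl
  · exact List.Nodup.filter _ (List.nodup_range')
  · intro r hr s hs e
    rw [Finset.mem_coe, List.mem_toFinset, List.mem_filter, List.mem_range'_1] at hr hs
    exact vec_inj isType (r := r) (s := s) (by rw [nroots_eq]; omega) (by rw [nroots_eq]; omega) e

end Words

/-! ### the field of two elements -/

/-- a decidable form of the commutation -/
def commOK (l l' : List ℕ) : Bool :=
  l.all fun s => l'.all fun r => Nat.blt r 48 && Nat.blt s 48 && !(s == r) && !(s == chevF4.neg r) &&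
    (chevF4.commTerms r s).all fun c => c.2.1 % 2 == 0

theorem ok1 : commOK [25, chevF4.neg 25] [41, chevF4.neg 41] = true := by (delta Cfsg.Agent.SigZero.FFourTwo.commOK; rewrite [Cfsg.Agent.ChevFast.F4.commTerms, Cfsg.Agent.ChevFast.F4.neg]; decide +kernel)
theorem ok2 : commOK [25, chevF4.neg 25] [30, chevF4.neg 30] = true := by (delta Cfsg.Agent.SigZero.FFourTwo.commOK; rewrite [Cfsg.Agent.ChevFast.F4.commTerms, Cfsg.Agent.ChevFast.F4.neg]; decide +kernel)
theorem ok3 : commOK [41, chevF4.neg 41] [30, chevF4.neg 30] = true := by (delta Cfsg.Agent.SigZero.FFourTwo.commOK; rewrite [Cfsg.Agent.ChevFast.F4.commTerms, Cfsg.Agent.ChevFast.F4.neg]; decide +kernel)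
theorem ok4 : commOK [27, chevF4.neg 27] [29, chevF4.neg 29] = true := by decide +kernel
theorem ok5 : commOK [27, chevF4.neg 27] [28, chevF4.neg 28] = true := by decide +kernel
theorem ok6 : commOK [29, chevF4.neg 29] [28, chevF4.neg 28] = true := by decide +kernel

section Two

variable {K : Type u} [Field K] [Finite K] (hK : Nat.card K = 2)

include hK

omit [Finite K] in
theorem eq_zero_or_one (t : K) : t = 0 ∨ t = 1 := by
  by_cases h0 : t = 0
  · exact Or.inl h0
  · right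
    obtain ⟨y, hy, hy2⟩ := (Nat.card_eq_two_iff' (0 : K)).1 hK
    exact (hy2 t h0).trans (hy2 1 one_ne_zero).symm

omit [Finite K] in
theorem charP_two : CharP K 2 := by
  have h1 : (1 : K) + 1 = 0 := by
    rcases eq_zero_or_one hK ((1 : K) + 1) with h0 | h0
    · exact h0
    · exact absurd (add_eq_left.1 h0) one_ne_zero
  refine CharTwo.of_one_ne_zero_of_two_eq_zero one_ne_zero ?_
  rw [← one_add_one_eq_two, h1]

omit [Finite K] in
theorem diagonal_eq_bot : chevF4.diagonalSubgroup K = ⊥ := by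
  have := charP_two hK
  rw [eq_bot_iff]
  show Subgroup.closure _ ≤ _
  rw [Subgroup.closure_le]
  rintro g ⟨r, t, hr, ht, e⟩
  have h1 : t = 1 := (eq_zero_or_one hK t).resolve_left ht
  subst h1
  rw [← eq_hG_iff isType.inList] at e
  rw [SetLike.mem_coe, Subgroup.mem_bot, e, hG_def, nG_def, nG_def]
  simp only [CharTwo.neg_eq, inv_one]
  have h2 : ∀ s : ℕ, xG isType.inList s (1 : K) * xG isType.inList s (1 : K) = 1 := by
    intro s
    rw [xG_add, CharTwo.add_self_eq_zero, xG_zero]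
  have h3 : ∀ s : ℕ, (xG isType.inList s (1 : K))⁻¹ = xG isType.inList s (1 : K) := fun s =>
    inv_eq_of_mul_eq_one_left (h2 s)
  have h4 := h2 r
  have h5 := h2 (chevF4.neg r)
  generalize xG isType.inList r (1 : K) = a at *
  generalize xG isType.inList (chevF4.neg r) (1 : K) = b at *
  calc a * (b * a) * (a * (b * a)) = a * (b * ((a * a) * (b * a))) := by group
    _ = a * ((b * b) * a) := by rw [h4]; group
    _ = 1 := by rw [h5, one_mul, h4]

variable {W : Type*} [Group W] (cs : CoxeterSystem CoxeterMatrix.F₄ W)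

theorem T_eq_bot : (chevF4.diagonalSubgroup K).subgroupOf (chevF4.group K) = ⊥ := by
  rw [diagonal_eq_bot hK, Subgroup.bot_subgroupOf]

theorem card_X {x : Fin 4 → ℤ} (hx : IsRoot cs isType.isCartan x) :
    Nat.card ↥((XV chevF4 4 K x).subgroupOf (chevF4.group K)) = 2 := by
  rw [Nat.card_congr (Subgroup.subgroupOfEquivOfLe (XV_le_group isType x)).toEquiv]
  obtain ⟨r, hr, rfl⟩ := (isRoot_iff isType cs x).1 hx
  rw [XV_vec isType K hr, ← hK]
  symm
  refine Nat.card_congr (Equiv.ofBijective (fun t : K => (⟨xG isType.inList r t,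
    xG_mem_rootSubgroup isType.inList r t⟩ : ↥(chevF4.rootSubgroup K r))) ⟨?_, ?_⟩)
  · intro t u e
    exact xG_injective isType.inList hr (congrArg Subtype.val e)
  · rintro ⟨g, hg⟩
    obtain ⟨t, rfl⟩ := (mem_rootSubgroup_iff isType.inList r g).1 hg
    exact ⟨t, rfl⟩

omit [Finite K] in
/-- the commutator of two root groups when the structure constants are even -/
theorem comm_of_even {r s : ℕ} (hr : r < 48) (hs : s < 48) (hrs : s ≠ r) (hneg : s ≠ chevF4.neg r)
    (he : ((chevF4.commTerms r s).all fun c => c.2.1 % 2 == 0) = true)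
    {a b : GL chevF4.Idx K} (ha : a ∈ XV chevF4 4 K (vec chevF4 4 s)) (hb : b ∈ XV chevF4 4 K (vec chevF4 4 r)) :
    a * b = b * a := by
  have := charP_two hK
  rw [XV_vec isType K hs, mem_rootSubgroup_iff isType.inList] at ha
  rw [XV_vec isType K hr, mem_rootSubgroup_iff isType.inList] at hb
  obtain ⟨u, rfl⟩ := ha
  obtain ⟨t, rfl⟩ := hb
  have e : ⁅xG isType.inList s u, xG isType.inList r t⁆ = wordG isType.inList (chevF4.commWord K r s (-t) (-u)) := by
    rw [← comm_xG isType hr hs hrs hneg, xG_inv, xG_inv, _root_.neg_neg, _root_.neg_neg]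
  have h1 : wordG isType.inList (chevF4.commWord K r s (-t) (-u)) = 1 := by
    rw [← Subgroup.mem_bot]
    refine wordG_mem isType _ _ ?_
    intro c hc
    have hc' : c ∈ (chevF4.commTerms r s).map fun c => (c.1, (c.2.1 : K) * (- -t) ^ c.2.2.1 * (-u) ^ c.2.2.2) := hc
    rw [List.mem_map] at hc'
    obtain ⟨⟨v, C, i, j⟩, hv, rfl⟩ := hc'
    have h2 := List.all_eq_true.1 he _ hv
    rw [beq_iff_eq] at h2
    obtain ⟨k, hk⟩ := Int.dvd_of_emod_eq_zero h2
    have h3 : ((C : ℤ) : K) = 0 := by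
      have hk' : C = 2 * k := hk
      rw [hk']
      push_cast
      rw [CharTwo.two_eq_zero, zero_mul]
    rw [Subgroup.mem_bot]
    show xG isType.inList v (((C : ℤ) : K) * (- -t) ^ i * (-u) ^ j) = 1
    rw [h3, zero_mul, zero_mul, xG_zero]
  rw [h1] at e
  exact commutatorElement_eq_one_iff_mul_comm.1 e

/-- the order of a parabolic subgroup -/
theorem card_PJ_eq {J : List (Fin 4)} {L : List (List (Fin 4))} (hc : chk J L = true) :
    ∃ a : ℕ, Nat.card ↥(PJ cs isType.isCartan ((chevF4.diagonalSubgroup K).subgroupOf (chevF4.group K))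
      (fun x => (XV chevF4 4 K x).subgroupOf (chevF4.group K)) {i | i ∈ J}) =
      2 ^ a * (L.map fun ω => 2 ^ inv ω).sum := by
  classical
  have := charP_two hK
  have : Fact (Nat.Prime 2) := ⟨Nat.prime_two⟩
  have hfin := finite_W isType cs
  have hft : Fintype ↥(WJ cs {i | i ∈ J}) := Fintype.ofFinite _
  have R := rgd (K := K) isType cs 2
  have h1 := RgdCount.card_PJ R (T_eq_bot hK) {i | i ∈ J}
  obtain ⟨a, ha⟩ := (IsPGroup.iff_card (p := 2)).1 R.isPGroup_Upos
  refine ⟨a, ?_⟩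
  rw [h1, ha]
  congr 1
  have h2 : ∀ w : W, Nat.card ↥(RGD.Sup (fun x => (XV chevF4 4 K x).subgroupOf (chevF4.group K))
      (NW cs isType.isCartan w)) = 2 ^ (NW cs isType.isCartan w).ncard := fun w =>
    RgdCount.card_Sup_NW R (fun x hx => card_X hK cs hx) w
  simp only [h2]
  rw [sum_WJ cs hc (fun w => 2 ^ (NW cs isType.isCartan w).ncard)]
  congr 1
  refine List.map_congr_left fun ω _ => ?_
  rw [ncard_NW]

theorem comm_of_ok {s r : ℕ} (h : commOK [s, chevF4.neg s] [r, chevF4.neg r] = true) (hs : s < 48) (hr : r < 48) :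
    ∀ x ∈ ({vec chevF4 4 s, -vec chevF4 4 s} : Set (Fin 4 → ℤ)),
    ∀ y ∈ ({vec chevF4 4 r, -vec chevF4 4 r} : Set (Fin 4 → ℤ)),
    ∀ a ∈ (XV chevF4 4 K x).subgroupOf (chevF4.group K), ∀ b ∈ (XV chevF4 4 K y).subgroupOf (chevF4.group K),
      a * b = b * a := by
  have key : ∀ s' ∈ [s, chevF4.neg s], ∀ r' ∈ [r, chevF4.neg r],
      ∀ a ∈ (XV chevF4 4 K (vec chevF4 4 s')).subgroupOf (chevF4.group K),
      ∀ b ∈ (XV chevF4 4 K (vec chevF4 4 r')).subgroupOf (chevF4.group K), a * b = b * a := by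
    intro s' hs' r' hr' a ha b hb
    have h1 := List.all_eq_true.1 (List.all_eq_true.1 h s' hs') r' hr'
    simp only [Bool.and_eq_true, Bool.not_eq_true', beq_eq_false_iff_ne, ne_eq] at h1
    obtain ⟨⟨⟨⟨h2, h3⟩, h4⟩, h5⟩, h6⟩ := h1
    exact Subtype.ext (comm_of_even hK (by simpa [Nat.blt_eq] using h2) (by simpa [Nat.blt_eq] using h3) h4 h5 h6
      (Subgroup.mem_subgroupOf.1 ha) (Subgroup.mem_subgroupOf.1 hb))
  intro x hx y hy a ha b hb
  have e1 : ∃ s' ∈ [s, chevF4.neg s], x = vec chevF4 4 s' := by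
    rcases hx with rfl | hx
    · exact ⟨s, by simp, rfl⟩
    · rw [Set.mem_singleton_iff] at hx
      subst hx
      exact ⟨chevF4.neg s, by simp, (vec_neg isType hs).symm⟩
  have e2 : ∃ r' ∈ [r, chevF4.neg r], y = vec chevF4 4 r' := by
    rcases hy with rfl | hy
    · exact ⟨r, by simp, rfl⟩
    · rw [Set.mem_singleton_iff] at hy
      subst hy
      exact ⟨chevF4.neg r, by simp, (vec_neg isType hr).symm⟩
  obtain ⟨s', hs', rfl⟩ := e1
  obtain ⟨r', hr', rfl⟩ := e2
  exact key s' hs' r' hr' a ha b hb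


/-- the parabolic subgroup of type `C₃` has an element of order 9 -/
theorem nine_C : ∃ y ∈ PJ cs isType.isCartan ((chevF4.diagonalSubgroup K).subgroupOf (chevF4.group K))
      (fun x => (XV chevF4 4 K x).subgroupOf (chevF4.group K)) {i | i ∈ ([0, 1, 2] : List (Fin 4))},
      y ^ 9 = 1 ∧ y ^ 3 ≠ 1 := by
  have := charP_two hK
  have : Fact (Nat.Prime 2) := ⟨Nat.prime_two⟩
  have hfin := finite_W isType cs
  have R := rgd (K := K) isType cs 2
  have hw : ∀ r < 48, rep cs isType.isCartan (cs.wordProd [0, 1]) (vec chevF4 4 r) = vec chevF4 4 (act [0, 1] r) :=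
    fun r hr => (rep_word cs [0, 1] hr).1
  refine RgdCount.exists_nine R (T_eq_bot hK) _ 2 (by simp) (card_X hK cs (isRoot_sr cs _ 2)) (w := cs.wordProd [0, 1])
    ?_ ?_ (r := vec chevF4 4 41) (s := vec chevF4 4 30) ?_ ?_ ?_ ?_ ?_
  · rw [wordProd_cons, wordProd_cons, wordProd_nil, mul_one]
    exact mul_mem (Cfsg.Agent.Tits.Exchange.simple_mem_WJ cs (by simp))
      (Cfsg.Agent.Tits.Exchange.simple_mem_WJ cs (by simp))
  · have e : cs.wordProd [0, 1] ^ 3 = cs.wordProd [0, 1, 0, 1, 0, 1] := by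
      simp only [wordProd_cons, wordProd_nil, mul_one, pow_succ, pow_zero, one_mul, mul_assoc]
    rw [e, ← wordProd_nil cs]
    exact eq_of_key cs (by decide +kernel)
  · rw [sr_eq]; exact hw 25 (by norm_num)
  · exact hw 41 (by norm_num)
  · rw [sr_eq]; exact comm_of_ok hK (s := 25) ok1 (by norm_num) (by norm_num)
  · rw [sr_eq]; exact comm_of_ok hK (s := 25) ok2 (by norm_num) (by norm_num)
  · exact comm_of_ok hK ok3 (by norm_num) (by norm_num)

/-- the parabolic subgroup of type `B₃` has an element of order 9 -/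
theorem nine_B : ∃ y ∈ PJ cs isType.isCartan ((chevF4.diagonalSubgroup K).subgroupOf (chevF4.group K))
      (fun x => (XV chevF4 4 K x).subgroupOf (chevF4.group K)) {i | i ∈ ([1, 2, 3] : List (Fin 4))},
      y ^ 9 = 1 ∧ y ^ 3 ≠ 1 := by
  have := charP_two hK
  have : Fact (Nat.Prime 2) := ⟨Nat.prime_two⟩
  have hfin := finite_W isType cs
  have R := rgd (K := K) isType cs 2
  have hw : ∀ r < 48, rep cs isType.isCartan (cs.wordProd [3, 2]) (vec chevF4 4 r) = vec chevF4 4 (act [3, 2] r) :=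
    fun r hr => (rep_word cs [3, 2] hr).1
  refine RgdCount.exists_nine R (T_eq_bot hK) _ 1 (by simp) (card_X hK cs (isRoot_sr cs _ 1)) (w := cs.wordProd [3, 2])
    ?_ ?_ (r := vec chevF4 4 29) (s := vec chevF4 4 28) ?_ ?_ ?_ ?_ ?_
  · rw [wordProd_cons, wordProd_cons, wordProd_nil, mul_one]
    exact mul_mem (Cfsg.Agent.Tits.Exchange.simple_mem_WJ cs (by simp))
      (Cfsg.Agent.Tits.Exchange.simple_mem_WJ cs (by simp))
  · have e : cs.wordProd [3, 2] ^ 3 = cs.wordProd [3, 2, 3, 2, 3, 2] := by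
      simp only [wordProd_cons, wordProd_nil, mul_one, pow_succ, pow_zero, one_mul, mul_assoc]
    rw [e, ← wordProd_nil cs]
    exact eq_of_key cs (by decide +kernel)
  · rw [sr_eq]; exact hw 27 (by norm_num)
  · exact hw 29 (by norm_num)
  · rw [sr_eq]; exact comm_of_ok hK (s := 27) ok4 (by norm_num) (by norm_num)
  · rw [sr_eq]; exact comm_of_ok hK (s := 27) ok5 (by norm_num) (by norm_num)
  · exact comm_of_ok hK ok6 (by norm_num) (by norm_num)

end Two

/-! ### the 2-local subgroups -/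

/-- the parabolic subgroup `P_J` of `F₄(K)` -/
abbrev Par (K : Type u) [Field K] (J : Set (Fin 4)) : Subgroup ↥(chevF4.group K) :=
  PJ CoxeterMatrix.F₄.toCoxeterSystem isType.isCartan ((chevF4.diagonalSubgroup K).subgroupOf (chevF4.group K))
    (fun x => (XV chevF4 4 K x).subgroupOf (chevF4.group K)) J

section Final

variable {K : Type u} [Field K] [Finite K] (hK : Nat.card K = 2)

include hK

/-- **Borel–Tits**: every 2-local subgroup is in a maximal parabolic subgroup. -/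
theorem exists_par {H : Subgroup ↥(chevF4.group K)} (hH : IsTwoLocal H) :
    ∃ g, ∃ J ∈ ([[0, 1, 2], [1, 2, 3], [0, 1, 3], [0, 2, 3]] : List (List (Fin 4))),
      H ≤ cj g (Par K {i | i ∈ J}) := by
  have := charP_two hK
  have : Fact (Nat.Prime 2) := ⟨Nat.prime_two⟩
  have hfin := finite_W isType CoxeterMatrix.F₄.toCoxeterSystem
  have R := rgd (K := K) isType CoxeterMatrix.F₄.toCoxeterSystem 2
  obtain ⟨T, hT, hT1, rfl⟩ := hH
  have hF := Cfsg.Agent.KFacts.RgdFiltChev.filt (K := K) isType CoxeterMatrix.F₄.toCoxeterSystem 2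
  obtain ⟨g, J, hJ, -, hN⟩ := Cfsg.Agent.KFacts.RgdBorelTits.borel_tits hF
    (Cfsg.Agent.KFacts.RgdFilt.GG_eq_top (G1_eq_top isType CoxeterMatrix.F₄.toCoxeterSystem)) hT hT1
  have hmono : ∀ J' : List (Fin 4), (∀ j ∈ J, j ∈ J') →
      PJ CoxeterMatrix.F₄.toCoxeterSystem isType.isCartan ((chevF4.diagonalSubgroup K).subgroupOf (chevF4.group K))
        (fun x => (XV chevF4 4 K x).subgroupOf (chevF4.group K)) J ≤ Par K {i | i ∈ J'} := by
    intro J' hJ' y hy
    obtain ⟨w, hw, hc⟩ := (mem_PJ_iff_cell R).1 hy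
    exact (mem_PJ_iff_cell R).2 ⟨w, Subgroup.closure_mono (Set.image_mono fun j hj => hJ' j hj) hw, hc⟩
  obtain ⟨i, hi⟩ := (Set.ne_univ_iff_exists_notMem J).1 hJ
  have h4 : ∀ i : Fin 4, ∃ J' ∈ ([[0, 1, 2], [1, 2, 3], [0, 1, 3], [0, 2, 3]] : List (List (Fin 4))),
      ∀ j, j ≠ i → j ∈ J' := by decide
  obtain ⟨J', hJ', h5⟩ := h4 i
  refine ⟨g, J', hJ', le_trans hN (cj_mono g (hmono J' fun j hj => h5 j ?_))⟩
  rintro rfl
  exact hi hj

theorem card_par {J : List (Fin 4)} (hJ : J ∈ ([[0, 1, 2], [1, 2, 3], [0, 1, 3], [0, 2, 3]] : List (List (Fin 4)))) :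
    (∃ a : ℕ, Nat.card ↥(Par K {i | i ∈ J}) = 2 ^ a * 63) ∨ (∃ a : ℕ, Nat.card ↥(Par K {i | i ∈ J}) = 2 ^ a * 2835) ∧
      ∃ y ∈ Par K {i | i ∈ J}, y ^ 9 = 1 ∧ y ^ 3 ≠ 1 := by
  simp only [List.mem_cons, List.not_mem_nil, or_false] at hJ
  rcases hJ with rfl | rfl | rfl | rfl
  · refine Or.inr ⟨?_, nine_C hK _⟩
    obtain ⟨a, ha⟩ := card_PJ_eq hK CoxeterMatrix.F₄.toCoxeterSystem chkLC
    exact ⟨a, by rw [ha, sumLC]⟩
  · refine Or.inr ⟨?_, nine_B hK _⟩
    obtain ⟨a, ha⟩ := card_PJ_eq hK CoxeterMatrix.F₄.toCoxeterSystem chkLB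
    exact ⟨a, by rw [ha, sumLB]⟩
  · left
    obtain ⟨a, ha⟩ := card_PJ_eq hK CoxeterMatrix.F₄.toCoxeterSystem chkLD
    exact ⟨a, by rw [ha, sumLD]⟩
  · left
    obtain ⟨a, ha⟩ := card_PJ_eq hK CoxeterMatrix.F₄.toCoxeterSystem chkLE
    exact ⟨a, by rw [ha, sumLE]⟩

/-- the order of a 2-local subgroup of `F₄(2)` divides `2^a * 3^4 * 5 * 7` -/
theorem card_two_local {H : Subgroup ↥(chevF4.group K)} (hH : IsTwoLocal H) : ∃ a : ℕ, Nat.card ↥H ∣ 2 ^ a * 2835 := by
  obtain ⟨g, J, hJ, hle⟩ := exists_par hK hH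
  have h1 := Subgroup.card_dvd_of_le hle
  rw [Cfsg.Agent.Nodes.CardSup.card_cj] at h1
  rcases card_par hK hJ with ⟨a, ha⟩ | ⟨⟨a, ha⟩, -⟩
  · rw [ha] at h1
    exact ⟨a, dvd_trans h1 (mul_dvd_mul_left _ (by norm_num))⟩
  · rw [ha] at h1
    exact ⟨a, h1⟩

omit hK in
theorem pow_dvd_odd {p : ℕ} (hp : p.Prime) (hp2 : p ≠ 2) {k a N : ℕ} (h : p ^ k ∣ 2 ^ a * N) : p ^ k ∣ N := by
  have h1 : (p ^ k).Coprime (2 ^ a) := Nat.Coprime.pow k a ((Nat.coprime_primes hp Nat.prime_two).2 hp2)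
  exact h1.dvd_of_dvd_mul_left h

/-- **Every 2-local subgroup of `F₄(2)` has `p`-rank at most 3 for every odd prime `p`.** -/
theorem odd_rank : OddTwoLocalRankLE 3 ↥(chevF4.group K) := by
  intro p hp hp2 H hH A hA hAp
  by_contra hcon
  push Not at hcon
  have : Fact p.Prime := ⟨hp⟩
  have hpg : IsPGroup p ↥A := fun a => ⟨1, Subtype.ext (by simpa only [_root_.pow_one, _root_.SubmonoidClass.coe_pow, _root_.OneMemClass.coe_one] using hAp a.1 a.2)⟩
  obtain ⟨m, hm⟩ := (IsPGroup.iff_card (p := p)).1 hpg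
  have hmk : 4 ≤ m := by
    by_contra hmk
    have h1 : p ^ m ≤ p ^ 3 := Nat.pow_le_pow_right hp.pos (by omega)
    omega
  obtain ⟨g, J, hJ, hle⟩ := exists_par hK hH
  -- the image of `A` in the parabolic subgroup
  set P : Subgroup ↥(chevF4.group K) := cj g (Par K {i | i ∈ J}) with hP
  set A' : Subgroup ↥(chevF4.group K) := A.map H.subtype with hA'
  have hA'P : A' ≤ P := by
    rintro _ ⟨a, ha, rfl⟩
    exact hle a.2
  have hcA' : Nat.card ↥A' = p ^ m := by
    rw [← hm]; exact Subgroup.card_map_of_injective (Subgroup.subtype_injective _)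
  have hcP : Nat.card ↥P = Nat.card ↥(Par K {i | i ∈ J}) := Cfsg.Agent.Nodes.CardSup.card_cj _
  have hdvd : p ^ m ∣ Nat.card ↥P := by
    rw [← hcA']; exact Subgroup.card_dvd_of_le hA'P
  have hAexp : ∀ a ∈ A', a ^ p = 1 := by
    rintro _ ⟨a, ha, rfl⟩
    rw [← map_pow, hAp a ha, map_one]
  rcases card_par hK hJ with ⟨a, ha⟩ | ⟨⟨a, ha⟩, y, hyP, hy9, hy3⟩
  · -- `63` is too small
    rw [hcP, ha] at hdvd
    have h1 := pow_dvd_odd hp hp2 hdvd
    have h2 := Nat.le_of_dvd (by norm_num) h1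
    have h3 : 3 ^ 4 ≤ p ^ m := le_trans (Nat.pow_le_pow_left (by
      have := hp.two_le
      omega) 4) (Nat.pow_le_pow_right hp.pos hmk)
    norm_num at h3
    omega
  · rw [hcP, ha] at hdvd
    have h1 := pow_dvd_odd hp hp2 hdvd
    have h14 : p ^ 4 ∣ 2835 := dvd_trans (pow_dvd_pow p hmk) h1
    have hp3 : p = 3 := by
      have h2 : p ∣ 2835 := dvd_trans (dvd_pow_self p (by norm_num)) h14
      have h3 : p ≤ 7 := by
        have h4 := Nat.le_of_dvd (by norm_num) h14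
        by_contra h5
        push Not at h5
        have h6 : 8 ^ 4 ≤ p ^ 4 := Nat.pow_le_pow_left h5 4
        norm_num at h6
        omega
      interval_cases p
      · exact absurd hp (by norm_num)
      · exact absurd hp (by norm_num)
      · omega
      · rfl
      · exact absurd hp (by norm_num)
      · exact absurd h14 (by norm_num)
      · exact absurd hp (by norm_num)
      · exact absurd h14 (by norm_num)
    subst hp3
    have hm4 : m = 4 := by
      by_contra h2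
      have h3 : 3 ^ 5 ∣ 2835 := dvd_trans (pow_dvd_pow 3 (by omega)) h1
      exact absurd h3 (by norm_num)
    subst hm4
    -- `A'` is a Sylow 3-subgroup of `P`
    have hAP : Nat.card ↥(A'.subgroupOf P) = 3 ^ 4 := by
      rw [Nat.card_congr (Subgroup.subgroupOfEquivOfLe hA'P).toEquiv, hcA']
    have hfac : (Nat.card ↥P).factorization 3 = 4 := by
      rw [hcP, ha, Nat.factorization_mul (by positivity) (by norm_num), Finsupp.add_apply, Nat.factorization_pow]
      have e1 : (2 : ℕ).factorization 3 = 0 := Nat.factorization_eq_zero_of_not_dvd (by norm_num)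
      have e2 : (2835 : ℕ).factorization 3 = 4 := by
        have : (2835 : ℕ) = 3 ^ 4 * 35 := by norm_num
        rw [this, Nat.factorization_mul (by norm_num) (by norm_num), Finsupp.add_apply, Nat.factorization_pow,
          Finsupp.smul_apply, Nat.Prime.factorization_self (by norm_num),
          Nat.factorization_eq_zero_of_not_dvd (by norm_num : ¬ 3 ∣ 35)]
        norm_num
      rw [Finsupp.smul_apply, e1, e2, smul_zero, zero_add]
    let S : Sylow 3 ↥P := Sylow.ofCard (A'.subgroupOf P) (by rw [hAP, hfac])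
    have hS : ∀ s ∈ (S : Subgroup ↥P), s ^ 3 = 1 := by
      intro s hs
      have h3 : s ∈ A'.subgroupOf P := hs
      exact Subtype.ext (hAexp s.1 (Subgroup.mem_subgroupOf.1 h3))
    -- the element of order 9
    set z : ↥P := ⟨g * y * g⁻¹, conj_mem_cj.2 hyP⟩ with hz
    have hz9 : z ^ 9 = 1 := Subtype.ext (by
      show (g * y * g⁻¹) ^ 9 = 1
      rw [conj_pow, hy9, mul_one, mul_inv_cancel])
    have hzp : IsPGroup 3 ↥(Subgroup.zpowers z) := by
      rw [IsPGroup.iff_card]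
      have h3 : orderOf z ∣ 3 ^ 2 := orderOf_dvd_of_pow_eq_one (by norm_num only []; exact hz9)
      obtain ⟨k, -, hk⟩ := (Nat.dvd_prime_pow (by norm_num : Nat.Prime 3)).1 h3
      exact ⟨k, by rw [Nat.card_zpowers, hk]⟩
    obtain ⟨Q, hQ⟩ := hzp.exists_le_sylow
    obtain ⟨c, hc⟩ := MulAction.exists_smul_eq ↥P S Q
    have hzQ : z ∈ (Q : Subgroup ↥P) := hQ (Subgroup.mem_zpowers z)
    rw [← hc, Sylow.coe_subgroup_smul, Subgroup.mem_pointwise_smul_iff_inv_smul_mem] at hzQ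
    have h5 := hS _ hzQ
    have h6 : c⁻¹ * z * c ∈ (S : Subgroup ↥P) := by simpa only [MulAut.smul_def, _root_.MulAut.inv_apply, _root_.MulAut.conj_symm_apply] using hzQ
    have h7 := hS _ h6
    have h8 : z ^ 3 = 1 := by
      have e1 : (c⁻¹ * z * c) ^ 3 = c⁻¹ * z ^ 3 * c := by
        have := conj_pow (i := 3) (a := c⁻¹) (b := z)
        rwa [inv_inv] at this
      rw [e1] at h7
      have : z ^ 3 = c * (c⁻¹ * z ^ 3 * c) * c⁻¹ := by group
      rw [this, h7]; group
    apply hy3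
    have h9 : (g * y * g⁻¹) ^ 3 = 1 := congrArg Subtype.val h8
    rw [conj_pow] at h9
    have : y ^ 3 = g⁻¹ * (g * y ^ 3 * g⁻¹) * g := by group
    rw [this, h9]; group

end Final

theorem nat_card_of_fintype {F : Type*} [Fintype F] (h : Fintype.card F = 2) : Nat.card F = 2 := by
  rw [Nat.card_eq_fintype_card, h]

/-- **`e(G) ≤ 3` for `G ≅ F₄(2)`.** -/
theorem odd_rank_of {G : Type*} [Group G]
    (h : ∃ (F : Type) (_ : Field F) (_ : Fintype F), Fintype.card F = 2 ∧ Nonempty (G ≃* ↥(chevF4.group F))) :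
    OddTwoLocalRankLE 3 G := by
  obtain ⟨F, _, _, hF, ⟨e⟩⟩ := h
  exact Cfsg.Agent.SigZero.ATwelve.odd_congr e (odd_rank (nat_card_of_fintype hF))

/-- **`σ(G) = ∅` for `G ≅ F₄(2)`.** -/
theorem sigma_empty {G : Type*} [Group G]
    (h : ∃ (F : Type) (_ : Field F) (_ : Fintype F), Fintype.card F = 2 ∧ Nonempty (G ≃* ↥(chevF4.group F))) :
    sigmaSet G = ∅ :=
  Cfsg.Agent.SigZero.ATwelve.sigma_empty_of_odd (odd_rank_of h)

end Cfsg.Agent.SigZero.FFourTwo

end

-- merged: Cfsg.Agent.SigTab.AltFFour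
section

/-!
# The rows `alt` and `f4` of `Sig0Lie` (helper37)

* `alt : Sig0 (A_n, n ≤ 12)`, `f4 : Sig0 (F₄(2))`.
-/

set_option autoImplicit false

namespace Cfsg.Agent.SigTab.AltFFour

open Cfsg Cfsg.Agent.SevenCases Cfsg.Agent.SigTab Subgroup

universe u

/-- the order of the centralizer in `S_n`, `n ≤ 12`, of an even involution is not divisible by 27 -/
theorem not_dvd_perm {n : ℕ} (hn : n ≤ 12) (t : Equiv.Perm (Fin n)) (ht : orderOf t = 2)
    (hs : Equiv.Perm.sign t = 1) : ¬ 3 ^ 3 ∣ Nat.card ↥(centralizer ({t} : Set (Equiv.Perm (Fin n)))) := by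
  have : Fact (Nat.Prime 2) := ⟨Nat.prime_two⟩
  have h1 : t ^ 2 = 1 := by rw [← ht]; exact pow_orderOf_eq_one t
  have h2 := Equiv.Perm.cycleType_of_pow_prime_eq_one h1
  set m := t.cycleType.card with hm
  have h3 : t.cycleType.sum ≤ n := by
    have := t.sum_cycleType_le
    simpa only [_root_.ge_iff_le, _root_.Fintype.card_fin] using this
  have h4 : 2 * m ≤ n := by
    rw [h2, Multiset.sum_replicate, smul_eq_mul] at h3
    omega
  have h5 : m ≠ 0 := by
    intro h0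
    rw [h0] at h2
    have h6 : t = 1 := Equiv.Perm.cycleType_eq_zero.1 (by rw [h2]; rfl)
    rw [h6, orderOf_one] at ht
    omega
  have h6 : Even m := by
    rw [Equiv.Perm.sign_of_cycleType, h2, Multiset.sum_replicate, Multiset.card_replicate, smul_eq_mul] at hs
    rw [pow_add, pow_mul'] at hs
    have h7 : ((-1 : ℤˣ) ^ 2) ^ m = 1 := by norm_num
    rw [h7, one_mul] at hs
    by_contra hodd
    rw [Nat.not_even_iff_odd] at hodd
    rw [hodd.neg_one_pow] at hs
    exact absurd hs (by decide)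
  rw [Equiv.Perm.nat_card_centralizer, h2, Multiset.sum_replicate, Multiset.prod_replicate,
    Multiset.toFinset_replicate, if_neg h5, Finset.prod_singleton, Multiset.count_replicate_self, Fintype.card_fin,
    smul_eq_mul]
  obtain ⟨j, hj⟩ := h6
  have key : ∀ k m : ℕ, k + 2 * m = 12 → (m = 2 ∨ m = 4 ∨ m = 6) → ¬ 3 ^ 3 ∣ k.factorial * 2 ^ m * m.factorial := by
    rintro k m hk (rfl | rfl | rfl)
    · obtain rfl : k = 8 := by omega
      decide
    · obtain rfl : k = 4 := by omega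
      decide
    · obtain rfl : k = 0 := by omega
      decide
  intro hd
  refine key (12 - 2 * m) m (by omega) (by omega) (dvd_trans hd ?_)
  refine mul_dvd_mul (mul_dvd_mul (Nat.factorial_dvd_factorial ?_) dvd_rfl) dvd_rfl
  omega

theorem card_alt_dvd {n : ℕ} (hn : n ≤ 12) : Nat.card ↥(alternatingGroup (Fin n)) ∣ 239500800 := by
  rcases Nat.lt_or_ge n 2 with h | h
  · have : Subsingleton (Fin n) := by
      interval_cases n
      · exact ⟨fun a => a.elim0⟩
      · infer_instance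
    rw [Nat.card_unique]
    exact one_dvd _
  · have : Nontrivial (Fin n) := Fin.nontrivial_iff_two_le.2 h
    have h1 := nat_card_alternatingGroup (α := Fin n)
    rw [h1, Nat.card_eq_fintype_card, Fintype.card_fin]
    have h2 : n.factorial / 2 ∣ Nat.factorial 12 / 2 := by
      obtain ⟨k, hk⟩ := Nat.factorial_dvd_factorial hn
      obtain ⟨l, hl⟩ : 2 ∣ n.factorial := Nat.dvd_factorial (by norm_num) h
      rw [hk, hl, Nat.mul_div_cancel_left _ (by norm_num), mul_assoc, Nat.mul_div_cancel_left _ (by norm_num)]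
      exact dvd_mul_right _ _
    have h3 : Nat.factorial 12 / 2 = 239500800 := by decide
    rwa [h3] at h2

/-- Every 2-local subgroup of `A_n`, `n ≤ 12`, has `p`-rank at most 3 for every odd prime `p`. -/
theorem odd_rank {n : ℕ} (hn : n ≤ 12) : OddTwoLocalRankLE 3 ↥(alternatingGroup (Fin n)) := by
  intro p hp hp2
  by_cases h3 : p = 3
  · subst h3
    refine Cfsg.Agent.SigZero.ATwelve.twoLocalPRankLE_of_centralizer hp hp2 (by norm_num) ?_
    intro t ht hd
    refine not_dvd_perm hn (t : Equiv.Perm (Fin n)) ?_ t.2 (dvd_trans hd ?_)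
    · rw [← ht]; exact Subgroup.orderOf_coe t
    · have h1 : (centralizer ({t} : Set ↥(alternatingGroup (Fin n)))).map (alternatingGroup (Fin n)).subtype ≤
          centralizer ({(t : Equiv.Perm (Fin n))} : Set (Equiv.Perm (Fin n))) := by
        rintro _ ⟨x, hx, rfl⟩
        rw [mem_centralizer_singleton_iff]
        have := mem_centralizer_singleton_iff.1 hx
        exact congrArg Subtype.val this
      rw [← Subgroup.card_map_of_injective (Subgroup.subtype_injective (alternatingGroup (Fin n)))]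
      exact Subgroup.card_dvd_of_le h1
  · rintro H - A hA hAp
    by_contra hcon
    push Not at hcon
    have : Fact p.Prime := ⟨hp⟩
    have hpg : IsPGroup p ↥A := fun a => ⟨1, Subtype.ext (by simpa only [_root_.pow_one, _root_.SubmonoidClass.coe_pow, _root_.OneMemClass.coe_one] using hAp a.1 a.2)⟩
    obtain ⟨m, hm⟩ := (IsPGroup.iff_card (p := p)).1 hpg
    have hmk : 4 ≤ m := by
      by_contra hmk
      have h1 : p ^ m ≤ p ^ 3 := Nat.pow_le_pow_right hp.pos (by omega)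
      omega
    have h1 : p ^ 4 ∣ 239500800 := by
      refine dvd_trans (dvd_trans (pow_dvd_pow p hmk) ?_) (card_alt_dvd hn)
      rw [← hm]
      exact dvd_trans (Subgroup.card_subgroup_dvd_card A) (Subgroup.card_subgroup_dvd_card H)
    have h2 : p ≤ 125 := by
      by_contra hlt
      push Not at hlt
      have h3 := Nat.le_of_dvd (by norm_num) h1
      have h4 : 125 ^ 4 < p ^ 4 := Nat.pow_lt_pow_left hlt (by norm_num)
      have h5 : 239500800 < 125 ^ 4 := by norm_num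
      omega
    interval_cases p <;> first | (clear * - h1 hp2 h3; omega) | (exfalso; revert h1; decide) | (exfalso; revert hp; decide)

/-- **Row `alt` of `Sig0Lie`.** -/
theorem alt : Sig0.{u} (fun X _ => Alt (fun n => n ≤ 12) X) := by
  rintro G _ _ ⟨n, hn, ⟨e⟩⟩
  exact Cfsg.Agent.SigZero.ATwelve.sigma_empty_of_odd
    (Cfsg.Agent.SigZero.ATwelve.odd_congr e (odd_rank hn))

/-- **Row `f4` of `Sig0Lie`.** -/
theorem f4 : Sig0.{u} (fun X _ => FFourEven (fun q => q = 2) X) := by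
  rintro G _ _ ⟨F, _, _, -, hq, h⟩
  exact Cfsg.Agent.SigZero.FFourTwo.sigma_empty ⟨F, _, _, hq, h⟩

end Cfsg.Agent.SigTab.AltFFour

end

private theorem dce_c06745041613 : _root_.True := by
  try have : _root_.True := by simp only [_root_.Cfsg.Agent.Nodes.NormalForm.NW.congr_simp]
  try have : _root_.True := by simp only [_root_.Cfsg.Agent.SigZero.FFourTwo.key.eq_1]
  exact _root_.True.intro
end

-- part: H296/FFourPar
section
set_option linter.all false
open scoped Cfsg.Agent.FastGrp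

/-!
# Parabolic subgroups of `F₄(q)`, `q` even: orders, Borel–Tits (helper296)

* `card_PJ_gen` : the order of a parabolic subgroup of a root group datum: `|U| |T| ∑_{w ∈ W_J} |U_w|`;
* `card_Par` : for `F₄(q)`: `|P_J| = |U| |T| ∑ q ^ inv ω`;
* `exists_par` : Borel–Tits.
-/

set_option autoImplicit false
set_option linter.unusedSectionVars false

namespace Cfsg.Agent.H296.FFourPar

open CoxeterSystem Cfsg.Agent.ChevalleyStructure.CoxeterGeom Cfsg.Agent.Tits.Roots Cfsg.Agent.Tits.Core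
  Cfsg.Agent.Tits.RootComb Cfsg.Agent.Nodes.Comb Cfsg.Agent.Nodes.Reps Cfsg.Agent.Nodes.BNOf
  Cfsg.Agent.Nodes.StabComb Cfsg.Agent.Nodes.Bruhat Cfsg.Agent.Nodes.LeviDec Cfsg.Agent.Nodes.NormalForm
open Cfsg.Lie Cfsg.Agent.ChevalleyStructure Cfsg.Agent.ChevalleyStructure.Elts
  Cfsg.Agent.ChevalleyStructure.RootVec Cfsg.Agent.ChevalleyStructure.RootVecTab
  Cfsg.Agent.ChevalleyStructure.NPerm Cfsg.Agent.ChevalleyStructure.CoxeterGeomTypes
open Cfsg.Agent.Nodes Cfsg.Agent.Nodes.RGDChev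

universe u

section Gen

variable {I W Y : Type*} [Fintype I] [DecidableEq I] [Group W] [Group Y] {M : CoxeterMatrix I}
  {cs : CoxeterSystem M W} {A : I → I → ℤ} {h : IsCartan M A} {p : ℕ} {T : Subgroup Y} {n : I → Y}
  {X : (I → ℤ) → Subgroup Y} (R : RGD cs h p T n X)

include R

/-- **The order of a parabolic subgroup.** -/
theorem card_PJ_gen [Finite W] [Finite Y] (J : Set I) [Fintype ↥(WJ cs J)] :
    Nat.card ↥(PJ cs h T X J) = Nat.card ↥(RGD.Sup X (RGD.Pos cs h)) * Nat.card ↥T *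
      ∑ w : ↥(WJ cs J), Nat.card ↥(RGD.Sup X (NW cs h (w : W))) := by
  classical
  have hex : ∀ w : W, ∃ k, Rp cs R.nsys w k := fun w => exists_rp cs R.nsys w
  choose k hk using hex
  have hNU : ∀ w : W, RGD.Sup X (NW cs h w) ≤ RGD.Sup X (RGD.Pos cs h) := fun w =>
    RGD.Sup_mono fun x hx => ⟨hx.1, hx.2.1⟩
  have hkt : ∀ (w : W) (t : ↥T), Rp cs R.nsys w (k w * t) := fun w t => (hk w).mul_mem_right t.2
  let f : (Σ w : ↥(WJ cs J), (↥(RGD.Sup X (RGD.Pos cs h)) × ↥T) × ↥(RGD.Sup X (NW cs h (w : W)))) →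
      ↥(PJ cs h T X J) := fun x => ⟨x.2.1.1 * (k x.1 * x.2.1.2) * x.2.2, by
    refine mul_mem (mul_mem (B_le_PJ (RGD.U_le_B x.2.1.1.2)) (LJ_le_PJ (rp_mem_LJ R x.1.2 (hkt _ _)))) (B_le_PJ
      (RGD.U_le_B (hNU _ x.2.2.2)))⟩
  have hf : Function.Bijective f := by
    constructor
    · rintro ⟨⟨w, hw⟩, ⟨⟨u, hu⟩, ⟨t, ht⟩⟩, ⟨v, hv⟩⟩ ⟨⟨w', hw'⟩, ⟨⟨u', hu'⟩, ⟨t', ht'⟩⟩, ⟨v', hv'⟩⟩ e
      have e1 : u * (k w * t) * v = u' * (k w' * t') * v' := congrArg Subtype.val e
      have c1 : Cell R.nsys cs h X w (u * (k w * t) * v) :=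
        ⟨u, RGD.U_le_B hu, k w * t, hkt w ⟨t, ht⟩, v, RGD.U_le_B (hNU w hv), rfl⟩
      have c2 : Cell R.nsys cs h X w' (u' * (k w' * t') * v') :=
        ⟨u', RGD.U_le_B hu', k w' * t', hkt w' ⟨t', ht'⟩, v', RGD.U_le_B (hNU w' hv'), rfl⟩
      have hww : w = w' := Cell.unique R c1 (by rw [e1]; exact c2)
      subst hww
      obtain ⟨rfl, h2, rfl⟩ := normal_form_unique R hu hu' (hkt w ⟨t, ht⟩) (hkt w ⟨t', ht'⟩) hv hv' e1
      have h3 : t = t' := mul_left_cancel h2
      subst h3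
      rfl
    · rintro ⟨g, hg⟩
      obtain ⟨w, hw, hc⟩ := (mem_PJ_iff_cell R).1 hg
      obtain ⟨u, hu, k', hk', v, hv, rfl⟩ := exists_normal_form R hc
      refine ⟨⟨⟨w, hw⟩, ⟨⟨u, hu⟩, ⟨_, (hk w).unique hk'⟩⟩, ⟨v, hv⟩⟩, Subtype.ext ?_⟩
      show u * (k w * ((k w)⁻¹ * k')) * v = u * k' * v
      group
  rw [← Nat.card_congr (Equiv.ofBijective f hf), Nat.card_sigma]
  simp only [Nat.card_prod]
  rw [Finset.mul_sum]

theorem card_Sup_NW [Finite W] {q : ℕ} (hX : ∀ x, IsRoot cs h x → Nat.card ↥(X x) = q) (w : W) :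
    Nat.card ↥(RGD.Sup X (NW cs h w)) = q ^ (NW cs h w).ncard := by
  classical
  have hfin : (NW cs h w).Finite := (RGD.finite_roots (cs := cs) (h := h)).subset fun _ hx => hx.1
  have h1 := Cfsg.Agent.Nodes.CardSup.card_sup R (s := hfin.toFinset) (by
    rw [Set.Finite.coe_toFinset]
    exact fun x hx => ⟨hx.1, hx.2.1⟩) (by
    rw [Set.Finite.coe_toFinset]
    exact Cfsg.Agent.SigZero.RgdCount.closed_NW w)
  rw [Set.Finite.coe_toFinset] at h1
  rw [h1, Finset.prod_congr rfl (fun x hx => hX x ((Set.Finite.mem_toFinset hfin).1 hx).1), Finset.prod_const,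
    Set.ncard_eq_toFinset_card _ hfin]

end Gen

section FF

open Cfsg.Agent.SigZero.FFourTwo

variable {K : Type u} [Field K] [Finite K] [CharP K 2]

set_option quotPrecheck false in
local notation "TTK" => (chevF4.diagonalSubgroup K).subgroupOf (chevF4.group K)
set_option quotPrecheck false in
local notation "XXK" => (fun x => (XV chevF4 4 K x).subgroupOf (chevF4.group K))

theorem card_X {W : Type*} [Group W] (cs : CoxeterSystem CoxeterMatrix.F₄ W) {x : Fin 4 → ℤ}
    (hx : IsRoot cs isType.isCartan x) :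
    Nat.card ↥((XV chevF4 4 K x).subgroupOf (chevF4.group K)) = Nat.card K := by
  rw [Nat.card_congr (Subgroup.subgroupOfEquivOfLe (XV_le_group isType x)).toEquiv]
  obtain ⟨r, hr, rfl⟩ := (isRoot_iff isType cs x).1 hx
  rw [XV_vec isType K hr]
  symm
  refine Nat.card_congr (Equiv.ofBijective (fun t : K => (⟨xG isType.inList r t,
    xG_mem_rootSubgroup isType.inList r t⟩ : ↥(chevF4.rootSubgroup K r))) ⟨?_, ?_⟩)
  · intro t u e
    exact xG_injective isType.inList hr (congrArg Subtype.val e)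
  · rintro ⟨g, hg⟩
    obtain ⟨t, rfl⟩ := (mem_rootSubgroup_iff isType.inList r g).1 hg
    exact ⟨t, rfl⟩

/-- the order of a parabolic subgroup -/
theorem card_PJ_eq {W : Type*} [Group W] (cs : CoxeterSystem CoxeterMatrix.F₄ W) {J : List (Fin 4)}
    {L : List (List (Fin 4))} (hc : chk J L = true) :
    ∃ a : ℕ, Nat.card ↥(PJ cs isType.isCartan TTK XXK {i | i ∈ J}) =
      2 ^ a * Nat.card ↥TTK * (L.map fun ω => Nat.card K ^ inv ω).sum := by
  classical
  have : Fact (Nat.Prime 2) := ⟨Nat.prime_two⟩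
  have hfin := finite_W isType cs
  have hft : Fintype ↥(WJ cs {i | i ∈ J}) := Fintype.ofFinite _
  have R := rgd (K := K) isType cs 2
  have h1 := card_PJ_gen R {i | i ∈ J}
  obtain ⟨a, ha⟩ := (IsPGroup.iff_card (p := 2)).1 R.isPGroup_Upos
  refine ⟨a, ?_⟩
  rw [h1, ha]
  congr 1
  have h2 : ∀ w : W, Nat.card ↥(RGD.Sup (fun x => (XV chevF4 4 K x).subgroupOf (chevF4.group K))
      (NW cs isType.isCartan w)) = Nat.card K ^ (NW cs isType.isCartan w).ncard := fun w =>
    card_Sup_NW R (fun x hx => card_X cs hx) w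
  simp only [h2]
  rw [sum_WJ cs hc (fun w => Nat.card K ^ (NW cs isType.isCartan w).ncard)]
  congr 1
  refine List.map_congr_left fun ω _ => ?_
  rw [ncard_NW]

/-- **Borel–Tits**: the normalizer of a 2-subgroup is in a maximal parabolic subgroup. -/
theorem exists_par {S : Subgroup ↥(chevF4.group K)} (hS : IsPGroup 2 ↥S) (hS1 : S ≠ ⊥) :
    ∃ g, ∃ J ∈ ([[0, 1, 2], [1, 2, 3], [0, 1, 3], [0, 2, 3]] : List (List (Fin 4))),
      Subgroup.normalizer (S : Set ↥(chevF4.group K)) ≤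
        cj g (PJ CoxeterMatrix.F₄.toCoxeterSystem isType.isCartan TTK XXK {i | i ∈ J}) := by
  have : Fact (Nat.Prime 2) := ⟨Nat.prime_two⟩
  have hfin := finite_W isType CoxeterMatrix.F₄.toCoxeterSystem
  have R := rgd (K := K) isType CoxeterMatrix.F₄.toCoxeterSystem 2
  have hF := Cfsg.Agent.KFacts.RgdFiltChev.filt (K := K) isType CoxeterMatrix.F₄.toCoxeterSystem 2
  obtain ⟨g, J, hJ, -, hN⟩ := Cfsg.Agent.KFacts.RgdBorelTits.borel_tits hF
    (Cfsg.Agent.KFacts.RgdFilt.GG_eq_top (G1_eq_top isType CoxeterMatrix.F₄.toCoxeterSystem)) hS hS1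
  have hmono : ∀ J' : List (Fin 4), (∀ j ∈ J, j ∈ J') →
      PJ CoxeterMatrix.F₄.toCoxeterSystem isType.isCartan TTK XXK J ≤
        PJ CoxeterMatrix.F₄.toCoxeterSystem isType.isCartan TTK XXK {i | i ∈ J'} := by
    intro J' hJ' y hy
    obtain ⟨w, hw, hc⟩ := (mem_PJ_iff_cell R).1 hy
    exact (mem_PJ_iff_cell R).2 ⟨w, Subgroup.closure_mono (Set.image_mono fun j hj => hJ' j hj) hw, hc⟩
  obtain ⟨i, hi⟩ := (Set.ne_univ_iff_exists_notMem J).1 hJ
  have h4 : ∀ i : Fin 4, ∃ J' ∈ ([[0, 1, 2], [1, 2, 3], [0, 1, 3], [0, 2, 3]] : List (List (Fin 4))),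
      ∀ j, j ≠ i → j ∈ J' := by decide
  obtain ⟨J', hJ', h5⟩ := h4 i
  refine ⟨g, J', hJ', le_trans hN (cj_mono g (hmono J' fun j hj => h5 j ?_))⟩
  rintro rfl
  exact hi hj

end FF

end Cfsg.Agent.H296.FFourPar
end
end
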