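import Cfsg.Agent.H296.OneElt
import Cfsg.Agent.H296.CommCases
import Cfsg.Agent.H377.SporRow
import Cfsg.Agent.CpAut.SporThree.ON
import Cfsg.Agent.H866.ONFive
import Cfsg.Agent.FastGrp
import Cfsg.Agent.Prune
set_option linter.all false
open scoped Cfsg.Agent.FastGrp

-- part: H296/AlmostCent
section
/-!
# A Sylow `p`-subgroup almost centralising an element of order `l` (helper296)

`x` of order `l` in a normal `p'`-subgroup of `D`: a Sylow `p`-subgroup `Q` of `D` has a subgroup `A` centralising `x`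
with `|Q : A|` dividing `l - 1`.
-/

set_option autoImplicit false

namespace Cfsg.Agent.H296.OneElt

open Subgroup

theorem almost_cent {D : Type*} [Group D] [Finite D] {p l : ℕ} [hp : Fact p.Prime] [hl : Fact l.Prime]
    (hl2 : ¬ l ^ 2 ∣ Nat.card D) {N : Subgroup D} [N.Normal] (hN : ¬ p ∣ Nat.card N) {x : D} (hxN : x ∈ N)
    (hx : orderOf x = l) :
    ∃ (Q : Sylow p D) (A : Subgroup D) (r : ℕ), A ≤ Q ∧ (∀ a ∈ A, a * x = x * a) ∧ r ∣ l - 1 ∧
      Nat.card ↥(Q : Subgroup D) = Nat.card A * r := by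
  have hXc : Nat.card ↥(zpowers x) = l := by rw [Nat.card_zpowers, hx]
  have hfac : (Nat.card D).factorization l = 1 := by
    have h1 : l ∣ Nat.card D := by rw [← hx]; exact orderOf_dvd_natCard x
    have h2 := hl.1.factorization_pos_of_dvd Nat.card_pos.ne' h1
    have h3 : ¬ 2 ≤ (Nat.card D).factorization l := fun h =>
      hl2 ((hl.1.pow_dvd_iff_le_factorization Nat.card_pos.ne').2 h)
    omega
  let X : Sylow l D := Sylow.ofCard (zpowers x) (by rw [hXc, hfac, pow_one])
  have h1 := index_dvd X (show (X : Subgroup D) ≤ N by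
    show zpowers x ≤ N
    rw [zpowers_le]; exact hxN)
  obtain ⟨Q, hQ⟩ := exists_sylow_le (p := p) (H := normalizer ((X : Subgroup D) : Set D)) (fun h => hN (h.trans h1))
  have hQ' : (Q : Subgroup D) ≤ normalizer ((zpowers x : Subgroup D) : Set D) := hQ
  let ψ : ↥(Q : Subgroup D) →* MulAut ↥(zpowers x) :=
    (zpowers x).normalizerMonoidHom.comp (Subgroup.inclusion hQ')
  refine ⟨Q, ψ.ker.map (Q : Subgroup D).subtype, Nat.card ψ.range, Subgroup.map_subtype_le _, ?_, ?_, ?_⟩
  · rintro _ ⟨q, hq, rfl⟩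
    have h6 : ψ q ⟨x, mem_zpowers x⟩ = ⟨x, mem_zpowers x⟩ := by
      rw [MonoidHom.mem_ker.1 hq]; rfl
    exact mul_inv_eq_iff_eq_mul.1 (congrArg Subtype.val h6)
  · have hcyc : IsCyclic ↥(zpowers x) := inferInstance
    have hAut : Nat.card (MulAut ↥(zpowers x)) = l - 1 := by
      rw [IsCyclic.card_mulAut, hXc, Nat.totient_prime hl.1]
    exact hAut ▸ Subgroup.card_subgroup_dvd_card _
  · rw [Subgroup.card_map_of_injective (Q : Subgroup D).subtype_injective, ← Subgroup.index_ker, ψ.ker.card_mul_index]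

/-- subgroups `A`, `B` of a group of order less than `|A| |B|` meet nontrivially -/
theorem exists_inter {K : Type*} [Group K] [Finite K] {P A B : Subgroup K} (hA : A ≤ P) (hB : B ≤ P)
    (h : Nat.card P < Nat.card A * Nat.card B) : A ⊓ B ≠ ⊥ := by
  intro hb
  have h1 : Function.Injective (fun g : A × B => (⟨(g.1 : K) * g.2, P.mul_mem (hA g.1.2) (hB g.2.2)⟩ : P)) := by
    intro a b hab
    exact Subgroup.mul_injective_of_disjoint (disjoint_iff.2 hb) (congrArg Subtype.val hab)
  have h2 := Nat.card_le_card_of_injective _ h1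
  rw [Nat.card_prod] at h2
  omega

end Cfsg.Agent.H296.OneElt
end

-- part: H296/ONCore
section
/-!
# S4329, the row `O'N` (helper296)

No element of order 31 commutes with an element of order 3, no element of order 11 with an element of order 7.
-/

set_option autoImplicit false

namespace Cfsg.Agent.H296.ONCore

open Subgroup Cfsg Cfsg.Agent.H363.Frat Cfsg.Agent.H296.TwoPart Cfsg.Agent.H296.Comm Cfsg.Agent.OrdDiv
open Cfsg.Agent.H393.Iso Cfsg.Agent.H568
open Cfsg.Spor (ON)
open Cfsg.Agent.SporadicB.ON45Word (on)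
open Cfsg.Agent.ONType.TupK (K0)
open Cfsg.Agent.KFacts.ON.Cent (hON finite_ON card_K0)
open Cfsg.Agent.KFacts.ON.OneClass (hs card_ON mem_K0 one_class)
open Cfsg.Agent.KFacts.ON.Words (vv v)
open Cfsg.Agent.KFacts.ON.Struct (conj_v f_ne_one)

theorem na_of {l : ℕ} (h : ¬ l ∣ 161280) : NA l ON := by
  have := finite_ON
  refine NA.of_isConj (fun s => s = on .f) (fun t ht ht1 => ⟨_, rfl, ?_⟩) ?_
  · exact (Cfsg.Agent.KFacts.ON.OneClass.one_class ht ht1).symm
  · rintro s rfl x hx hxs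
    refine not_comm_of_card ?_ hx hxs
    rwa [Cfsg.Agent.KFacts.ON.Cent.card_cent]

theorem card_on : Nat.card ON = 460815505920 := hON.2

/-- elements of odd order of `C(f)` centralise `v` -/
theorem comm_v {y : ON} (hy : y ∈ K0) {n : ℕ} (hn : y ^ (2 * n + 1) = 1) : y * v = v * y := by
  have h2 : ∀ k : ℕ, y ^ (2 * k) * v * (y ^ (2 * k))⁻¹ = v := by
    intro k
    induction k with
    | zero => simp
    | succ k ih =>
      have h3 : y * (y * v * y⁻¹) * y⁻¹ = v := by
        rcases conj_v hy with h | h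
        · rw [h, h]
        · rw [h]
          have : y * v⁻¹ * y⁻¹ = (y * v * y⁻¹)⁻¹ := by group
          rw [this, h, inv_inv]
      calc y ^ (2 * (k + 1)) * v * (y ^ (2 * (k + 1)))⁻¹
          = y * (y * (y ^ (2 * k) * v * (y ^ (2 * k))⁻¹) * y⁻¹) * y⁻¹ := by
            rw [show 2 * (k + 1) = 2 * k + 1 + 1 by ring, pow_succ', pow_succ']; group
        _ = v := by rw [ih, h3]
  have h3 := h2 (n + 1)
  have h4 : y ^ (2 * (n + 1)) = y := by
    rw [show 2 * (n + 1) = (2 * n + 1) + 1 by ring, pow_succ, hn, one_mul]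
  rw [h4] at h3
  exact mul_inv_eq_iff_eq_mul.1 h3

theorem orderOf_v : orderOf v = 4 := by
  have h1 : v ^ 2 ≠ 1 := by
    rw [pow_two, vv]
    exact f_ne_one
  have h2 : v ^ 2 ^ 2 = 1 := by
    have h3 : v ^ 2 ^ 2 = (v * v) * (v * v) := by
      rw [show 2 ^ 2 = 2 + 2 from rfl, pow_add, pow_two]
    rw [h3, vv, Cfsg.Agent.KFacts.ON.Struct.ff]
  exact orderOf_eq_prime_pow (p := 2) (n := 1) (by simpa using h1) h2

theorem num_of {N : ℕ} {c l : ℕ} (hc : c ∣ 460815505920) (q : ℕ) (hq : ¬ q ^ (N + 1) ∣ 460815505920)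
    (h : ∀ k ∈ Finset.Icc 1 N, ¬ l ∣ q ^ k - 1) : ∀ k : ℕ, k ≠ 0 → q ^ k ∣ c → ¬ l ∣ q ^ k - 1 := by
  intro k hk hkd
  refine h k (Finset.mem_Icc.2 ⟨Nat.one_le_iff_ne_zero.2 hk, ?_⟩)
  by_contra hc'
  exact hq (((pow_dvd_pow q (by omega)).trans hkd).trans hc)

/-! ### `p = 7` -/

theorem fac_eleven {x y : ON} (hy : orderOf y = 7) (hx : orderOf x = 11) (hxy : x * y = y * x) :
    ∃ (R M : Subgroup ↥(centralizer ({y} : Set ON))) (_ : R.Normal), Fac 11 R M ∧ ¬ 2 ∣ Nat.card R ∧
      Nat.card ↥(M.map (QuotientGroup.mk' R)) = 11 := by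
  have := finite_ON
  set D := centralizer ({y} : Set ON) with hD
  have hDc : Nat.card D ∣ 460815505920 := card_on ▸ Subgroup.card_subgroup_dvd_card D
  have hxD : x ∈ D := mem_centralizer_singleton_iff.2 hxy
  have hlD : 11 ∣ Nat.card D := by
    rw [← hx, ← Subgroup.orderOf_mk x hxD]
    exact orderOf_dvd_natCard _
  have h11 : Nat.Prime 11 := by norm_num
  obtain ⟨R, M, hR, F⟩ := exists_fac (D := D) h11 hlD (fun h => absurd (h.trans hDc) (by norm_num))
  have na : NonAdj D 11 2 := (nonAdj_of_na h11 (by norm_num) (na_of (by norm_num))).subgroup D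
  have hRo := F.not_dvd h11 Nat.prime_two (by norm_num) na (num_of (N := 9) hDc 2 (by norm_num) (by decide))
  refine ⟨R, M, hR, F, hRo, ?_⟩
  have hsol : Group.IsSolvable ↥D := CpAutON.Seven.solvable (fun K _ _ h => S0205.result h) hy
  have hs1 : Group.IsSolvable ↥(M.map (QuotientGroup.mk' R)) := inferInstance
  have := F.simple
  let _ : CommGroup ↥(M.map (QuotientGroup.mk' R)) :=
    { (inferInstance : Group ↥(M.map (QuotientGroup.mk' R))) with mul_comm := IsSimpleGroup.comm_iff_isSolvable.2 hs1 }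
  exact ((Nat.prime_dvd_prime_iff_eq h11 (IsSimpleGroup.prime_card (α := ↥(M.map (QuotientGroup.mk' R))))).1 F.dvd).symm

theorem not_comm_seven {x y : ON} (hx : orderOf x = 11) (hy : orderOf y = 7) : x * y ≠ y * x := by
  have := finite_ON
  have h7 : Fact (Nat.Prime 7) := ⟨by norm_num⟩
  have h11 : Fact (Nat.Prime 11) := ⟨by norm_num⟩
  refine OneElt.not_comm (p := 7) (l := 11) (by norm_num) (by rw [card_on]; norm_num) ?_
    (y0 := CpAutON.Seven.x0) ⟨1, by rw [pow_one]; exact CpAutON.Seven.x0_pow⟩ ?_ hx hy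
  · intro x y hx hy hxy
    obtain ⟨R, M, hR, F, hRo, hS⟩ := fac_eleven hy hx hxy
    have hDc : Nat.card ↥(centralizer ({y} : Set ON)) ∣ 460815505920 := card_on ▸ Subgroup.card_subgroup_dvd_card _
    have hxD : x ∈ centralizer ({y} : Set ON) := mem_centralizer_singleton_iff.2 hxy
    obtain ⟨N, hN, hNp, hxN⟩ := F.core h11.1 (fun h => absurd (h.trans hDc) (by norm_num)) h7.1 (by norm_num) hRo
      (by rw [hS]; norm_num) (num_of (N := 3) hDc 7 (by norm_num) (by decide))
      (x := ⟨x, hxD⟩) (by rw [Subgroup.orderOf_mk]; exact hx)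
    exact ⟨hxD, N, hN, hNp, hxN⟩
  · intro h
    obtain ⟨x', hx'⟩ := exists_prime_orderOf_dvd_card' 11 h
    have hx0 : orderOf CpAutON.Seven.x0 = 7 := orderOf_eq_prime CpAutON.Seven.x0_pow CpAutON.Seven.x0_ne
    obtain ⟨R, M, hR, F, hRo, hS⟩ := fac_eleven hx0 (x := x') (by rw [Subgroup.orderOf_coe, hx'])
      (mem_centralizer_singleton_iff.1 x'.2)
    have hv : v ∈ centralizer ({CpAutON.Seven.x0} : Set ON) :=
      mem_centralizer_singleton_iff.2 (comm_v CpAutON.Seven.x0_mem (n := 3) CpAutON.Seven.x0_pow).symm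
    have h4 : 2 ^ 2 ∣ Nat.card ↥(centralizer ({CpAutON.Seven.x0} : Set ON)) := by
      have h5 : orderOf (⟨v, hv⟩ : ↥(centralizer ({CpAutON.Seven.x0} : Set ON))) = 2 ^ 2 := by
        rw [Subgroup.orderOf_mk, orderOf_v]
        norm_num
      rw [← h5]
      exact orderOf_dvd_natCard _
    have hDc : Nat.card ↥(centralizer ({CpAutON.Seven.x0} : Set ON)) ∣ 460815505920 :=
      card_on ▸ Subgroup.card_subgroup_dvd_card _
    have h6 := F.dvd_mul h11.1 (fun h => absurd (h.trans hDc) (by norm_num)) Nat.prime_two (by norm_num)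
      ((nonAdj_of_na h11.1 (by norm_num) (na_of (by norm_num))).subgroup _)
      (num_of (N := 9) hDc 2 (by norm_num) (by decide)) h4
    rw [hS] at h6
    norm_num at h6

/-! ### `p = 3` -/

section

variable (AK : ∀ (S : Type) [Group S] [Finite S] [IsSimpleGroup S], IsKnownSimple' S) (T : OrderTable.{0})

include AK T

theorem fac_31 {x y : ON} (hy : orderOf y = 3) (hx : orderOf x = 31) (hxy : x * y = y * x) :
    ∃ (R M : Subgroup ↥(centralizer ({y} : Set ON))) (_ : R.Normal), Fac 31 R M ∧ ¬ 2 ∣ Nat.card R ∧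
      Nat.card ↥(M.map (QuotientGroup.mk' R)) = 31 := by
  have := finite_ON
  have hDc : Nat.card ↥(centralizer ({y} : Set ON)) ∣ 460815505920 := card_on ▸ Subgroup.card_subgroup_dvd_card _
  have h16 := CpAut.SporThree.ON.not_16 hy
  obtain ⟨R, M, hR, F⟩ := comm_cases AK T Nat.prime_three (by norm_num : Nat.Prime 31) (by norm_num)
    (by rw [card_on]; norm_num) (na_of (by norm_num)) hx hy hxy
    (by
      intro k hk hkd
      have hk4 : k ≤ 3 := by
        by_contra hc
        exact h16 ((pow_dvd_pow 2 (by omega : 4 ≤ k)).trans hkd)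
      interval_cases k <;> first | exact absurd rfl hk | norm_num)
    (L := [(2, 9), (3, 3), (5, 1), (7, 3), (11, 1), (19, 1), (31, 1)]) (N := 153605168640) (by decide +kernel)
    (by rw [card_on])
  refine ⟨R, M, hR, F.fac, F.odd, F.cas.resolve_right ?_⟩
  rintro ⟨g, hg, -, hc⟩
  rw [show ((cands [(2, 9), (3, 3), (5, 1), (7, 3), (11, 1), (19, 1), (31, 1)] 153605168640).filter
    fun g => ordN g % 31 == 0) = [.psl 2 32, .psl 2 31] from by decide +kernel] at hg
  have hd : Nat.card ↥(M.map (QuotientGroup.mk' R)) ∣ Nat.card ↥(centralizer ({y} : Set ON)) :=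
    (Dvd.intro_left _ F.fac.card.symm).trans (Subgroup.card_subgroup_dvd_card M)
  apply h16
  refine Dvd.dvd.trans ?_ hd
  rw [hc]
  simp only [List.mem_cons, List.not_mem_nil, or_false] at hg
  rcases hg with rfl | rfl <;> decide +kernel

omit AK T in
theorem fac_three : (Nat.card ON).factorization 3 = 4 := by
  have := finite_ON
  have h0 : Nat.card ON ≠ 0 := Nat.card_pos.ne'
  have h1 : 4 ≤ (Nat.card ON).factorization 3 :=
    (Nat.prime_three.pow_dvd_iff_le_factorization h0).1 (by rw [card_on]; norm_num)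
  have h2 : ¬ 5 ≤ (Nat.card ON).factorization 3 := fun h =>
    absurd ((Nat.prime_three.pow_dvd_iff_le_factorization h0).2 h) (by rw [card_on]; norm_num)
  omega

omit AK T in
theorem sylow_comm [Fact (Nat.Prime 3)] (P : Sylow 3 ON) : ∀ a ∈ (P : Subgroup ON), ∀ b ∈ (P : Subgroup ON), a * b = b * a := by
  have := finite_ON
  obtain ⟨E₀, hE₀c, hE₀a, -⟩ := CpAut.SporThree.ON.exists_E
  let S : Sylow 3 ON := Sylow.ofCard E₀ (by rw [hE₀c, fac_three])
  obtain ⟨g, hg⟩ := MulAction.exists_smul_eq ON S P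
  have hE : ∀ a ∈ (P : Subgroup ON), ∃ e ∈ E₀, a = g * e * g⁻¹ := by
    intro a ha
    rw [← hg] at ha
    obtain ⟨e, he, hb⟩ := ha
    exact ⟨e, he, hb.symm⟩
  intro a ha b hb
  obtain ⟨a', ha', rfl⟩ := hE a ha
  obtain ⟨b', hb', rfl⟩ := hE b hb
  calc g * a' * g⁻¹ * (g * b' * g⁻¹) = g * (a' * b') * g⁻¹ := by group
    _ = g * (b' * a') * g⁻¹ := by rw [hE₀a a' ha' b' hb']
    _ = _ := by group

omit AK T in
theorem dvd_three {y : ON} (hy : orderOf y = 3) : 3 ^ 4 ∣ Nat.card ↥(centralizer ({y} : Set ON)) := by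
  have := finite_ON
  have h3 : Fact (Nat.Prime 3) := ⟨Nat.prime_three⟩
  have hyp : IsPGroup 3 (zpowers y) := IsPGroup.of_card (n := 1) (by rw [Nat.card_zpowers, hy, pow_one])
  obtain ⟨P, hP⟩ := hyp.exists_le_sylow
  have h1 : (P : Subgroup ON) ≤ centralizer ({y} : Set ON) := fun a ha =>
    mem_centralizer_singleton_iff.2 (sylow_comm P a ha y (hP (mem_zpowers y)))
  have h2 := P.card_eq_multiplicity
  rw [fac_three] at h2
  rw [← h2]
  exact Subgroup.card_dvd_of_le h1

/-- a subgroup of order at least 27 commuting with `x` and a subgroup of order 9 commuting with an involution, in one Sylow subgroup -/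
theorem exists_big {x y : ON} (hx : orderOf x = 31) (hy : orderOf y = 3) (hxy : x * y = y * x) :
    ∃ (P : Sylow 3 ON) (A : Subgroup ON), A ≤ P ∧ (∀ a ∈ A, a * x = x * a) ∧ 27 ≤ Nat.card A := by
  have := finite_ON
  have h3 : Fact (Nat.Prime 3) := ⟨Nat.prime_three⟩
  have h31 : Fact (Nat.Prime 31) := ⟨by norm_num⟩
  obtain ⟨R, M, hR, F, hRo, hS⟩ := fac_31 AK T hy hx hxy
  have hDc : Nat.card ↥(centralizer ({y} : Set ON)) ∣ 460815505920 := card_on ▸ Subgroup.card_subgroup_dvd_card _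
  have hxD : x ∈ centralizer ({y} : Set ON) := mem_centralizer_singleton_iff.2 hxy
  have hx' : orderOf (⟨x, hxD⟩ : ↥(centralizer ({y} : Set ON))) = 31 := by rw [Subgroup.orderOf_mk]; exact hx
  obtain ⟨N, hN, hNp, hxN⟩ := F.core h31.1 (fun h => absurd (h.trans hDc) (by norm_num)) h3.1 (by norm_num) hRo
    (by rw [hS]; norm_num) (num_of (N := 4) hDc 3 (by norm_num) (by decide)) hx'
  obtain ⟨Q, A, r, hAQ, hAx, hr, hc⟩ := OneElt.almost_cent (p := 3) (l := 31) (fun h => absurd (h.trans hDc) (by norm_num))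
    hNp hxN hx'
  have hQc : Nat.card ↥(Q : Subgroup ↥(centralizer ({y} : Set ON))) = 3 ^ 4 := by
    rw [Q.card_eq_multiplicity]
    congr 1
    apply le_antisymm
    · rw [← fac_three]
      exact (Nat.factorization_le_iff_dvd Nat.card_pos.ne' Nat.card_pos.ne').2 (Subgroup.card_subgroup_dvd_card _) 3
    · exact (h3.1.pow_dvd_iff_le_factorization Nat.card_pos.ne').1 (dvd_three hy)
  have hQK : Nat.card ↥((Q : Subgroup ↥(centralizer ({y} : Set ON))).map (centralizer ({y} : Set ON)).subtype) =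
      3 ^ (Nat.card ON).factorization 3 := by
    rw [Subgroup.card_map_of_injective (Subgroup.subtype_injective _), hQc, fac_three]
  refine ⟨Sylow.ofCard _ hQK, A.map (centralizer ({y} : Set ON)).subtype, Subgroup.map_mono hAQ, ?_, ?_⟩
  · rintro _ ⟨a, ha, rfl⟩
    exact congrArg Subtype.val (hAx a ha)
  · rw [Subgroup.card_map_of_injective (Subgroup.subtype_injective _)]
    rw [hQc] at hc
    have h5 : r ∣ 81 := ⟨Nat.card A, by rw [mul_comm, ← hc]; norm_num⟩
    have h6 : r ∣ 3 := Nat.dvd_gcd hr h5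
    have h7 := Nat.le_of_dvd (by norm_num) h6
    nlinarith

theorem not_comm_three {x y : ON} (hx : orderOf x = 31) (hy : orderOf y = 3) : x * y ≠ y * x := by
  have := finite_ON
  have h3 : Fact (Nat.Prime 3) := ⟨Nat.prime_three⟩
  have h31 : Fact (Nat.Prime 31) := ⟨by norm_num⟩
  intro hxy
  obtain ⟨P, A, hAP, hAx, hA⟩ := exists_big AK T hx hy hxy
  -- a Sylow 3-subgroup of `K0`
  obtain ⟨B0⟩ : Nonempty (Sylow 3 K0) := inferInstance
  have hB0 : Nat.card ↥(B0 : Subgroup K0) = 9 := by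
    have h0 : Nat.card K0 ≠ 0 := Nat.card_pos.ne'
    have h1 : 2 ≤ (Nat.card K0).factorization 3 :=
      (Nat.prime_three.pow_dvd_iff_le_factorization h0).1 (by rw [card_K0]; norm_num)
    have h2 : ¬ 3 ≤ (Nat.card K0).factorization 3 := fun h =>
      absurd ((Nat.prime_three.pow_dvd_iff_le_factorization h0).2 h) (by rw [card_K0]; norm_num)
    rw [B0.card_eq_multiplicity, show (Nat.card K0).factorization 3 = 2 by omega]
    norm_num
  have hB0p : IsPGroup 3 ↥((B0 : Subgroup K0).map K0.subtype) := B0.isPGroup'.map _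
  obtain ⟨P', hP'⟩ := hB0p.exists_le_sylow
  obtain ⟨g, hg⟩ := MulAction.exists_smul_eq ON P' P
  have hBP : ((B0 : Subgroup K0).map K0.subtype).map (MulAut.conj g).toMonoidHom ≤ (P : Subgroup ON) := by
    rw [← hg]
    exact Subgroup.map_mono hP'
  have hBc : Nat.card ↥(((B0 : Subgroup K0).map K0.subtype).map (MulAut.conj g).toMonoidHom) = 9 := by
    rw [Subgroup.card_map_of_injective (MulAut.conj g).injective,
      Subgroup.card_map_of_injective (Subgroup.subtype_injective _), hB0]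
  have hPc : Nat.card ↥(P : Subgroup ON) = 81 := by rw [P.card_eq_multiplicity, fac_three]; norm_num
  have hne := OneElt.exists_inter hAP hBP (by rw [hPc, hBc]; omega)
  -- an element of order 3 in the intersection
  have hpg : IsPGroup 3 ↥(A ⊓ ((B0 : Subgroup K0).map K0.subtype).map (MulAut.conj g).toMonoidHom) :=
    P.isPGroup'.to_le (inf_le_left.trans hAP)
  have h3d : 3 ∣ Nat.card ↥(A ⊓ ((B0 : Subgroup K0).map K0.subtype).map (MulAut.conj g).toMonoidHom) := by
    obtain ⟨n, hn⟩ := IsPGroup.iff_card.1 hpg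
    rw [hn]
    refine dvd_pow_self _ ?_
    rintro rfl
    rw [pow_zero, Subgroup.card_eq_one] at hn
    exact hne hn
  obtain ⟨y0, hy0⟩ := exists_prime_orderOf_dvd_card' 3 h3d
  have hy0' : orderOf (y0 : ON) = 3 := by rw [Subgroup.orderOf_coe, hy0]
  obtain ⟨_, ⟨b, hb, rfl⟩, hby⟩ := y0.2.2
  have hby' : g * (b : ON) * g⁻¹ = (y0 : ON) := hby
  have hb3 : (b : ON) ^ (2 * 1 + 1) = 1 := by
    have h5 : orderOf (b : ON) = 3 := by rw [← orderOf_conj' g (b : ON), hby', hy0']
    exact orderOf_dvd_iff_pow_eq_one.1 (by rw [h5])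
  have hbv := comm_v b.2 hb3
  have hv : g * v * g⁻¹ ∈ centralizer ({(y0 : ON)} : Set ON) := by
    rw [mem_centralizer_singleton_iff, ← hby']
    calc g * v * g⁻¹ * (g * (b : ON) * g⁻¹) = g * (v * (b : ON)) * g⁻¹ := by group
      _ = g * ((b : ON) * v) * g⁻¹ := by rw [hbv]
      _ = _ := by group
  have h4 : 2 ^ 2 ∣ Nat.card ↥(centralizer ({(y0 : ON)} : Set ON)) := by
    have h5 : orderOf (⟨g * v * g⁻¹, hv⟩ : ↥(centralizer ({(y0 : ON)} : Set ON))) = 2 ^ 2 := by
      rw [Subgroup.orderOf_mk]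
      have h6 : orderOf (g * v * g⁻¹) = orderOf v := orderOf_conj' g v
      rw [h6, orderOf_v]
      norm_num
    rw [← h5]
    exact orderOf_dvd_natCard _
  have hDc : Nat.card ↥(centralizer ({(y0 : ON)} : Set ON)) ∣ 460815505920 := card_on ▸ Subgroup.card_subgroup_dvd_card _
  obtain ⟨R, M, hR, F, hRo, hS⟩ := fac_31 AK T hy0' hx (hAx _ y0.2.1).symm
  have h16 := CpAut.SporThree.ON.not_16 hy0'
  have h6 := F.dvd_mul h31.1 (fun h => absurd (h.trans hDc) (by norm_num)) Nat.prime_two (by norm_num)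
    ((nonAdj_of_na h31.1 (by norm_num) (na_of (by norm_num))).subgroup _)
    (by
      intro k hk hkd
      have hk4 : k ≤ 3 := by
        by_contra hc
        exact h16 ((pow_dvd_pow 2 (by omega : 4 ≤ k)).trans hkd)
      interval_cases k <;> first | exact absurd rfl hk | norm_num) h4
  rw [hS] at h6
  norm_num at h6

end

/-! ### Elements normalising no 3-subgroup, no 7-subgroup -/

theorem exists_noNorm_seven : ∃ x : ON, NoNorm 7 x := by
  have := finite_ON
  have h7 : Fact (Nat.Prime 7) := ⟨by norm_num⟩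
  have h11 : Fact (Nat.Prime 11) := ⟨by norm_num⟩
  obtain ⟨x, hx⟩ := exists_prime_orderOf_dvd_card' (G := ON) 11 (by rw [card_on]; norm_num)
  exact ⟨x, H377.SporRow.noNorm_of h11.1 hx (fun y hy => not_comm_seven hx hy) 3 (by rw [card_on]; norm_num) (by decide)⟩

theorem exists_noNorm_three (AK : ∀ (S : Type) [Group S] [Finite S] [IsSimpleGroup S], IsKnownSimple' S)
    (T : OrderTable.{0}) : ∃ x : ON, NoNorm 3 x := by
  have := finite_ON
  have h3 : Fact (Nat.Prime 3) := ⟨Nat.prime_three⟩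
  have h31 : Fact (Nat.Prime 31) := ⟨by norm_num⟩
  obtain ⟨x, hx⟩ := exists_prime_orderOf_dvd_card' (G := ON) 31 (by rw [card_on]; norm_num)
  exact ⟨x, H377.SporRow.noNorm_of h31.1 hx (fun y hy => not_comm_three AK T hx hy) 4 (by rw [card_on]; norm_num)
    (by decide +kernel)⟩

end Cfsg.Agent.H296.ONCore
end
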